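import Groth.Agent.LocCoh.K168.GorQuot
import Groth.Agent.LocCoh.K168.SuppDim
import Groth.Agent.LoccohA.DExtCM
import Groth.Agent.Localalg.DepthLC
import Groth.Agent.Localalg.Depth2
import Groth.Agent.Localalg.Matlis3
import Groth.Agent.S0817
import Mathlib.RingTheory.HopkinsLevitzki

/-!
# Generalized Cohen–Macaulay modules

* `isFiniteLength_iff_le_radical`: an Artinian module over a Noetherian local ring has finite length iff
  `m` is contained in the radical of its annihilator.
* `exists_delta`: dimension function on images of Gorenstein local rings.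
* `le_depth_iff`: `n ≤ depth M` iff `H^j_m(M) = 0` for `j < n`.
* `main`: S17755.
-/

set_option autoImplicit false
universe u v

open IsLocalRing

namespace K168.GenCM

theorem isFiniteLength_iff_le_radical {R : Type u} [CommRing R] [IsNoetherianRing R]
    [IsLocalRing R] (H : Type u) [AddCommGroup H] [Module R H] [IsArtinian R H] :
    IsFiniteLength R H ↔ maximalIdeal R ≤ (Module.annihilator R H).radical := by
  constructor
  · intro h
    have h1 : Module.Finite R H := by
      have := (isFiniteLength_iff_isNoetherian_isArtinian.mp h).1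
      exact inferInstance
    rw [K168.GorDual.le_radical_annihilator_iff_support]
    intro p hp hs
    rw [Groth.Agent.Sga2.MatlisLen.isFiniteLength_iff_support] at h
    exact h p (fun h2 => hp h2.ge) hs
  · intro h
    obtain ⟨k, hk⟩ := Ideal.exists_pow_le_of_le_radical_of_fg h
      (IsNoetherian.noetherian (maximalIdeal R))
    rw [isFiniteLength_iff_isNoetherian_isArtinian]
    refine ⟨?_, inferInstance⟩
    have htor : Module.IsTorsionBySet R H ((maximalIdeal R ^ k : Ideal R) : Set R) :=
      fun x a => Module.mem_annihilator.mp (hk a.2) x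
    let _ := htor.module
    have : IsScalarTower R (R ⧸ (maximalIdeal R) ^ k) H := htor.isScalarTower
    have := Groth.Agent.Localalg.Matlis.isArtinianRing_quotient_pow (R := R) k
    have h2 : IsArtinian (R ⧸ (maximalIdeal R) ^ k) H := isArtinian_of_tower R inferInstance
    have h3 : IsNoetherian (R ⧸ (maximalIdeal R) ^ k) H :=
      IsSemiprimaryRing.isNoetherian_iff_isArtinian.mpr h2
    have h4 : Module.Finite (R ⧸ (maximalIdeal R) ^ k) H := inferInstance
    have h5 : Module.Finite R H := Module.Finite.trans (R ⧸ (maximalIdeal R) ^ k) H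
    exact inferInstance

section Delta

variable {R : Type u} [CommRing R] [IsNoetherianRing R] [IsLocalRing R]
  {R' : Type u} [CommRing R'] [LocCoh.IsGorensteinLocalRing R']

omit [IsNoetherianRing R] [IsLocalRing R] in
/-- An image of a Gorenstein local ring has a dimension function `p ↦ dim R/p`. -/
theorem exists_delta (g : R' →+* R) (hg : Function.Surjective g) :
    ∃ δ : PrimeSpectrum R → ℕ, (∀ p, ringKrullDim (R ⧸ p.asIdeal) = δ p) ∧
      ∀ p q : PrimeSpectrum R, p ⋖ q → δ p = δ q + 1 := by
  let _ : Algebra R' R := g.toAlgebra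
  have hg' : Function.Surjective (algebraMap R' R) := hg
  obtain ⟨r, hr⟩ := Groth.Agent.CalgA.RegBasic.ringKrullDim_eq_natCast R'
  have h1 : ∀ p : PrimeSpectrum R, ∃ s e : ℕ,
      (p.asIdeal.comap (algebraMap R' R)).height = s ∧ ringKrullDim (R ⧸ p.asIdeal) = e ∧
        s + e = r := by
    intro p
    obtain ⟨s, e, hs, he, hse⟩ := K168.GorDual.exists_dims hr
      (PrimeSpectrum.comap (algebraMap R' R) p)
    refine ⟨s, e, hs, ?_, hse⟩
    rw [← he]
    exact (K168.GorQuot.ringKrullDim_comap hg' p.asIdeal).symm
  choose s e hs he hse using h1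
  refine ⟨e, he, fun p q hpq => ?_⟩
  have hcm := Groth.Agent.S0341.result R'
  have h1 : LocCoh.IsCohenMacaulayModule R' R' := hcm.supportDim_eq_depth
  have h2 : Module.support R' R' = Set.univ := by
    rw [Set.eq_univ_iff_forall]
    intro q
    rw [Module.mem_support_iff_exists_annihilator]
    refine ⟨1, ?_⟩
    intro a ha
    rw [Submodule.mem_annihilator_span_singleton] at ha
    have : a = 0 := by simpa using ha
    rw [this]; exact q.asIdeal.zero_mem
  have h3 : PrimeSpectrum.comap (algebraMap R' R) p ⋖ PrimeSpectrum.comap (algebraMap R' R) q := by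
    constructor
    · constructor
      · exact Ideal.comap_mono hpq.le
      · intro h
        exact hpq.lt.not_ge ((Ideal.comap_le_comap_iff_of_surjective _ hg' _ _).mp h)
    · intro c hpc hcq
      have hker : RingHom.ker (algebraMap R' R) ≤ c.asIdeal := by
        refine le_trans ?_ hpc.le
        intro x hx
        change algebraMap R' R x ∈ p.asIdeal
        rw [RingHom.mem_ker.mp hx]
        exact p.asIdeal.zero_mem
      have hmem : c ∈ PrimeSpectrum.zeroLocus (RingHom.ker (algebraMap R' R) : Set R') := hker
      rw [← range_comap_of_surjective R (algebraMap R' R) hg'] at hmem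
      obtain ⟨c, rfl⟩ := hmem
      have h4 : ∀ a b : PrimeSpectrum R, PrimeSpectrum.comap (algebraMap R' R) a <
          PrimeSpectrum.comap (algebraMap R' R) b → a < b := by
        intro a b hab
        constructor
        · exact (Ideal.comap_le_comap_iff_of_surjective _ hg' _ _).mp hab.le
        · intro h
          exact hab.not_ge (Ideal.comap_mono h)
      exact hpq.2 (h4 _ _ hpc) (h4 _ _ hcq)
  have h4 := Groth.Agent.Ega4A.CMCatenary.height_eq_of_covBy_of_module h1 h2 h3
  change (q.asIdeal.comap (algebraMap R' R)).height =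
    (p.asIdeal.comap (algebraMap R' R)).height + 1 at h4
  rw [hs, hs] at h4
  have h5 : s q = s p + 1 := by exact_mod_cast h4
  have h6 := hse p
  have h7 := hse q
  omega

end Delta

theorem le_depth_iff {A : Type u} [CommRing A] [IsNoetherianRing A] [IsLocalRing A] (N : Type u)
    [AddCommGroup N] [Module A N] [Module.Finite A N] (k : ℕ) :
    (∀ j : ℕ, j < k → Subsingleton (LocCoh.H (maximalIdeal A) j N)) ↔
      (k : ℕ∞) ≤ LocCoh.depth A N := by
  constructor
  · intro h
    by_contra hcon
    rw [not_le] at hcon
    have hne : LocCoh.idealDepth (maximalIdeal A) N ≠ ⊤ := (lt_top_of_lt hcon).ne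
    obtain ⟨d, hd⟩ := ENat.ne_top_iff_exists.mp hne
    have h1 := Groth.Agent.Localalg.DepthLC.nontrivial_H_idealDepth (maximalIdeal A) N d hd.symm
    have h2 : d < k := by
      have : ((d : ℕ) : ℕ∞) < k := hd ▸ hcon
      exact_mod_cast this
    have h3 := h d h2
    exact not_subsingleton _ h3
  · intro h j hj
    exact Groth.Agent.Localalg.DepthLC.subsingleton_H_of_lt_idealDepth (maximalIdeal A) N j
      (lt_of_lt_of_le (by exact_mod_cast hj) h)

theorem main (R : Type u) [CommRing R] [IsNoetherianRing R] [IsLocalRing R] (R' : Type u)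
    [CommRing R'] [LocCoh.IsGorensteinLocalRing R'] (g : R' →+* R) (hg : Function.Surjective g)
    (M : Type u) [AddCommGroup M] [Module R M] [Module.Finite R M] (n : ℕ)
    (hn : Module.supportDim R M = n) :
    (∀ i : ℕ, i < n → IsFiniteLength R (LocCoh.H (maximalIdeal R) i M)) ↔
      ((∀ p ∈ (Module.annihilator R M).minimalPrimes, ringKrullDim (R ⧸ p) = n) ∧
      ∀ (p : Ideal R) [p.IsPrime], p ≠ maximalIdeal R → Module.annihilator R M ≤ p →
        LocCoh.IsCohenMacaulayModule (Localization.AtPrime p)
          (LocalizedModule p.primeCompl M)) := by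
  obtain ⟨δ, hδ, hcov⟩ := exists_delta g hg
  have hcov' : ∀ p q : PrimeSpectrum R, p ⋖ q → (fun p => (δ p : ℤ)) p =
      (fun p => (δ p : ℤ)) q + 1 := by
    intro p q hpq
    have := hcov p q hpq
    push_cast [this]
    rfl
  have hle : ∀ q ∈ Module.support R M, δ q ≤ n := by
    intro q hq
    have h1 : ¬ (Module.supportDim R M < (n : ℕ)) := by rw [hn]; exact lt_irrefl _
    have h2 : Module.supportDim R M < ((n + 1 : ℕ) : WithBot ℕ∞) := by
      rw [hn]; exact_mod_cast Nat.lt_succ_self n
    have h3 := (K168.SuppDim.supportDim_lt_iff M (n + 1)).mp h2 q hq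
    rw [hδ] at h3
    have h4 : δ q < n + 1 := by exact_mod_cast h3
    omega
  -- reformulation of (1)
  have key : (∀ i : ℕ, i < n → IsFiniteLength R (LocCoh.H (maximalIdeal R) i M)) ↔
      ∀ p : PrimeSpectrum R, p.asIdeal ≠ maximalIdeal R →
        ((n - δ p : ℕ) : ℕ∞) ≤ LocCoh.depth (Localization.AtPrime p.asIdeal)
          (LocalizedModule p.asIdeal.primeCompl M) := by
    have h1 : ∀ i : ℕ, IsFiniteLength R (LocCoh.H (maximalIdeal R) i M) ↔
        ∀ (p : Ideal R) [p.IsPrime], ¬ maximalIdeal R ≤ p → ∀ j : ℕ,
        (j : WithBot ℕ∞) + ringKrullDim (R ⧸ p) = i →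
        Subsingleton (LocCoh.H (maximalIdeal (Localization.AtPrime p)) j
          (LocalizedModule p.primeCompl M)) := by
      intro i
      have := Groth.Agent.S0817.result R M i
      rw [isFiniteLength_iff_le_radical]
      exact K168.GorQuot.le_radical_annihilator_iff_quot R R' g hg M (maximalIdeal R) i
    constructor
    · intro h p hp
      rw [← le_depth_iff]
      intro j hj
      refine (h1 (j + δ p)).mp (h _ (by omega)) p.asIdeal ?_ j ?_
      · intro h2
        exact hp (le_antisymm (le_maximalIdeal p.isPrime.ne_top) h2)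
      · rw [hδ p]; push_cast; rfl
    · intro h i hi
      rw [h1]
      intro p hp hmp j hj
      rw [hδ ⟨p, hp⟩] at hj
      have hj' : j + δ ⟨p, hp⟩ = i := by exact_mod_cast hj
      refine (le_depth_iff _ _).mpr (h ⟨p, hp⟩ (fun h2 => hmp h2.ge)) j ?_
      omega
  rw [key]
  constructor
  · intro h
    have hmin : ∀ q : PrimeSpectrum R, q.asIdeal ∈ (Module.annihilator R M).minimalPrimes →
        δ q = n := by
      intro q hq
      have hqs : q ∈ Module.support R M := by
        rw [Module.mem_support_iff_of_finite]; exact hq.1.2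
      refine le_antisymm (hle q hqs) ?_
      have honly : ∀ q' ∈ Module.support R M, q' ≤ q → q' = q := by
        intro q' hq' hle'
        rw [Module.mem_support_iff_of_finite] at hq'
        exact le_antisymm hle' (hq.2 ⟨q'.isPrime, hq'⟩ hle')
      by_cases hqm : q.asIdeal = maximalIdeal R
      · have h1 : ¬ (Module.supportDim R M < (n : ℕ)) := by rw [hn]; exact lt_irrefl _
        rw [K168.SuppDim.supportDim_lt_iff] at h1
        push Not at h1
        obtain ⟨p, hp, hpn⟩ := h1
        have h2 : p ≤ q := by
          change p.asIdeal ≤ q.asIdeal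
          rw [hqm]
          exact le_maximalIdeal p.isPrime.ne_top
        rw [honly p hp h2, hδ] at hpn
        exact_mod_cast hpn
      · have hnt : Nontrivial (LocalizedModule q.asIdeal.primeCompl M) := hqs
        have h1 := h q hqm
        have h2 := Groth.Agent.Localalg.Depth2.depth_le_supportDim
          (R := Localization.AtPrime q.asIdeal) (LocalizedModule q.asIdeal.primeCompl M)
        have h3 : ((n - δ q : ℕ) : WithBot ℕ∞) ≤ Module.supportDim (Localization.AtPrime q.asIdeal)
            (LocalizedModule q.asIdeal.primeCompl M) :=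
          le_trans (WithBot.coe_le_coe.mpr h1) h2
        rw [Groth.Agent.LoccohA.DExtCM.natCast_le_supportDim_iff hcov' q M] at h3
        obtain ⟨q', hq', hqq, h4⟩ := h3
        rw [honly q' hq' hqq] at h4
        simp only [sub_self] at h4
        omega
    refine ⟨fun p hp => ?_, fun p hp hpm hle' => ?_⟩
    · have := hmin ⟨p, hp.1.1⟩ hp
      rw [← this]
      exact hδ ⟨p, hp.1.1⟩
    · have hps : (⟨p, hp⟩ : PrimeSpectrum R) ∈ Module.support R M := by
        rw [Module.mem_support_iff_of_finite]; exact hle'
      have hnt : Nontrivial (LocalizedModule p.primeCompl M) := hps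
      have h1 := h ⟨p, hp⟩ hpm
      refine le_antisymm ?_ (Groth.Agent.Localalg.Depth2.depth_le_supportDim
          (R := Localization.AtPrime p) (LocalizedModule p.primeCompl M))
      obtain ⟨D, hD⟩ := Groth.Agent.LoccohA.DExtCM.exists_supportDim_eq ⟨p, hp⟩ M hps
      obtain ⟨q, hq, hqp, h4⟩ := (Groth.Agent.LoccohA.DExtCM.natCast_le_supportDim_iff hcov'
        ⟨p, hp⟩ M D).mp hD.ge
      have h5 := hle q hq
      have h6 : D ≤ n - δ ⟨p, hp⟩ := by
        have : (D : ℤ) ≤ (δ q : ℤ) - (δ ⟨p, hp⟩ : ℤ) := h4
        omega
      refine le_trans hD.le ?_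
      have h7 : ((D : ℕ) : ℕ∞) ≤ LocCoh.depth (Localization.AtPrime p)
          (LocalizedModule p.primeCompl M) := le_trans (by exact_mod_cast h6) h1
      exact_mod_cast h7
  · rintro ⟨h1, h2⟩ p hp
    by_cases hps : p ∈ Module.support R M
    · have hann : Module.annihilator R M ≤ p.asIdeal := by
        rw [Module.mem_support_iff_of_finite] at hps; exact hps
      have h3 := h2 p.asIdeal hp hann
      obtain ⟨q, hq, hqp⟩ := Ideal.exists_minimalPrimes_le hann
      have h4 : δ ⟨q, hq.1.1⟩ = n := by
        have := h1 q hq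
        rw [hδ ⟨q, hq.1.1⟩] at this
        exact_mod_cast this
      have hqs : (⟨q, hq.1.1⟩ : PrimeSpectrum R) ∈ Module.support R M := by
        rw [Module.mem_support_iff_of_finite]; exact hq.1.2
      have hnt : Nontrivial (LocalizedModule p.asIdeal.primeCompl M) := hps
      have h5 : ((n - δ p : ℕ) : WithBot ℕ∞) ≤ Module.supportDim (Localization.AtPrime p.asIdeal)
            (LocalizedModule p.asIdeal.primeCompl M) := by
        rw [Groth.Agent.LoccohA.DExtCM.natCast_le_supportDim_iff hcov' p M]
        refine ⟨⟨q, hq.1.1⟩, hqs, hqp, ?_⟩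
        have h6 := hle p hps
        have h7 : ((n - δ p : ℕ) : ℤ) ≤ (δ ⟨q, hq.1.1⟩ : ℤ) - (δ p : ℤ) := by
          rw [h4]
          omega
        exact h7
      rw [h3] at h5
      exact WithBot.coe_le_coe.mp h5
    · have : Subsingleton (LocalizedModule p.asIdeal.primeCompl M) :=
        Module.notMem_support_iff.mp hps
      rw [← le_depth_iff]
      intro j _
      refine ⟨fun x y => ?_⟩
      have hx : ∀ x : LocCoh.H (maximalIdeal (Localization.AtPrime p.asIdeal)) j
          (LocalizedModule p.asIdeal.primeCompl M), x = 0 := by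
        intro x
        rw [← Groth.Agent.LoccohA.LES.hmap_id (maximalIdeal (Localization.AtPrime p.asIdeal)) j x]
        have h1 : (LinearMap.id : LocalizedModule p.asIdeal.primeCompl M
            →ₗ[Localization.AtPrime p.asIdeal] LocalizedModule p.asIdeal.primeCompl M) = 0 := by
          ext m
          exact Subsingleton.elim _ _
        rw [h1]
        exact Groth.Agent.LoccohA.LES.hmap_zero _ j x
      rw [hx x, hx y]

end K168.GenCM
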