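import Groth.Agent.LocCoh.K171.TopCoass
import Groth.Agent.LocCoh.K168.GenCM
import Groth.Agent.EGA41.K104.SemiCompl
import Groth.Agent.S5158
import Groth.Agent.Localalg.OldExt
import Groth.Agent.Localalg.Matlis4
import Mathlib.Algebra.Category.ModuleCat.Ext.Finite

/-!
# Cofiniteness of top local cohomology

`Ext^i_R(R/I, H^n_I(M))` has finite length for a finite module `M` of dimension `n` over a Noetherian
local ring.
-/

set_option autoImplicit false
universe u v

open IsLocalRing CategoryTheory Opposite TensorProduct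

namespace K168.CofinTop

open Groth.Agent.Dix.TopLC Groth.Agent.Localalg Groth.Agent.LoccohA K171.TopLC K171.Watts

/-- `Ext` from a finite module to an Artinian module is Artinian. -/
theorem isArtinian_ext {R : Type u} [CommRing R] [IsNoetherianRing R] (N M : ModuleCat.{u} R)
    [Module.Finite R N] [IsArtinian R M] (i : ℕ) : IsArtinian R (Abelian.Ext N M i) := by
  induction i generalizing N with
  | zero =>
    obtain ⟨k, f, hf⟩ := Module.Finite.exists_fin' R N
    have h1 : IsArtinian R ((Fin k → R) →ₗ[R] M) :=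
      ((LinearMap.lsum R (fun _ : Fin k => R) (M := M) R).symm.trans
        (LinearEquiv.piCongrRight fun _ => LinearMap.ringLmapEquivSelf R R M)).isArtinian_iff.mpr
        inferInstance
    have h2 : IsArtinian R (N →ₗ[R] M) :=
      isArtinian_of_injective (LinearMap.lcomp R M f) (fun a b hab => by
        ext x
        obtain ⟨y, rfl⟩ := hf x
        exact DFunLike.congr_fun hab y)
    exact (Abelian.Ext.linearEquiv₀.trans ModuleCat.homLinearEquiv).isArtinian_iff.mpr h2
  | succ n ih =>
    obtain ⟨N', _, _, _, _, f, surjf⟩ := Module.exists_finite_presentation R N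
    let exac := LinearMap.shortExact_shortComplexKer surjf
    have := ih (ModuleCat.of R (LinearMap.ker f))
    exact isArtinian_of_surjective _ (exac.extClass.precompOfLinear R M (add_comm 1 n))
      (precomp_extClass_surjective_of_projective_X₂ M exac n)

section Complete

variable {R : Type u} [CommRing R] [IsNoetherianRing R] [IsLocalRing R]
  [IsAdicComplete (maximalIdeal R) R]

/-- In the complete case, `H^n_I(M)` vanishes near primes `P ≠ m` containing `I`. -/
theorem exists_kill (I P : Ideal R) [P.IsPrime] (hIP : I ≤ P) (hP : P ≠ maximalIdeal R) (n : ℕ)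
    (M : Type u) [AddCommGroup M] [Module R M] (hfin : Module.Finite R M) :
    Module.supportDim R M ≤ n → ∃ s, s ∉ P ∧ ∀ y : LocCoh.H I n M, s • y = 0 := by
  induction hfin using IsNoetherianRing.induction_on_isQuotientEquivQuotientPrime R with
  | subsingleton N =>
    intro _
    refine ⟨1, fun h => ‹P.IsPrime›.ne_top ((Ideal.eq_top_iff_one P).mpr h), fun y => ?_⟩
    exact smul_eq_zero_of_kill I n (fun m => Subsingleton.elim _ _) y
  | quotient N p e =>
    intro hd
    by_cases hpP : p.asIdeal ≤ P
    · have hd' : ringKrullDim (R ⧸ p.asIdeal) ≤ n := by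
        rw [← Module.supportDim_quotient_eq_ringKrullDim, ← Module.supportDim_eq_of_equiv e]
        exact hd
      have h1 := K171.TopCoass.subsingleton_of_kill I p.asIdeal P hpP hIP hP n hd' (R ⧸ p.asIdeal)
      refine ⟨1, fun h => ‹P.IsPrime›.ne_top ((Ideal.eq_top_iff_one P).mpr h), fun y => ?_⟩
      rw [one_smul]
      have h2 : (e.symm.toLinearMap ∘ₗ e.toLinearMap) = LinearMap.id := by ext; simp
      have h3 := LES.hmap_id I n y
      rw [← h2, LES.hmap_comp] at h3
      rw [← h3, Subsingleton.elim (LES.hmap I n e.toLinearMap y) 0, map_zero]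
    · obtain ⟨s, hs, hsP⟩ := SetLike.not_le_iff_exists.mp hpP
      refine ⟨s, hsP, fun y => ?_⟩
      refine smul_eq_zero_of_kill I n (fun m => ?_) y
      apply e.injective
      rw [map_smul, map_zero]
      obtain ⟨t, ht⟩ := Ideal.Quotient.mk_surjective (e m)
      rw [← ht, Algebra.smul_def, Ideal.Quotient.algebraMap_eq, ← map_mul,
        Ideal.Quotient.eq_zero_iff_mem]
      exact Ideal.mul_mem_right _ _ hs
  | exact N₁ N₂ N₃ f g hf hg hfg h₁ h₃ =>
    intro hd
    obtain ⟨s, hs, hs1⟩ := h₁ ((Module.supportDim_le_of_injective f hf).trans hd)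
    obtain ⟨t, ht, ht1⟩ := h₃ ((Module.supportDim_le_of_surjective g hg).trans hd)
    refine ⟨s * t, fun h => (‹P.IsPrime›.mem_or_mem h).elim hs ht, fun y => ?_⟩
    have hex := (iface I).ex _ _ _ f g hf hg hfg n
    obtain ⟨z, hz⟩ := (hex (t • y)).1 (by
      have := ht1 (LES.hmap I n g y)
      rw [← map_smul] at this
      exact this)
    rw [mul_smul, ← hz, ← map_smul, hs1 z, map_zero]

/-- `I + Ann H^n_I(M)` is `m`-primary (complete case). -/
theorem le_radical (I : Ideal R) (n : ℕ) (M : Type u) [AddCommGroup M] [Module R M]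
    [Module.Finite R M] (hd : Module.supportDim R M ≤ n) :
    maximalIdeal R ≤ (I ⊔ Module.annihilator R (LocCoh.H I n M)).radical := by
  rw [Ideal.radical_eq_sInf]
  refine le_sInf ?_
  rintro P ⟨hP, hPp⟩
  by_cases hPm : P = maximalIdeal R
  · exact hPm.ge
  · obtain ⟨s, hs, hs1⟩ := exists_kill I P (le_sup_left.trans hP) hPm n M inferInstance hd
    exact absurd ((le_sup_right.trans hP) (Module.mem_annihilator.mpr hs1)) hs

end Complete

section Gen

variable {R : Type u} [CommRing R] [IsNoetherianRing R] [IsLocalRing R]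

/-- Multiplication by elements of a power of `m` on `H^n_I(M)` lies in `I · End`. -/
theorem exists_pow_mem (I : Ideal R) (n : ℕ) (M : Type u) [AddCommGroup M] [Module R M]
    [Module.Finite R M] (hd : Module.supportDim R M ≤ n) :
    ∃ k : ℕ, ∀ x ∈ maximalIdeal R ^ k,
      x • (LinearMap.id : LocCoh.H I n M →ₗ[R] LocCoh.H I n M) ∈
        I • (⊤ : Submodule R (LocCoh.H I n M →ₗ[R] LocCoh.H I n M)) := by
  set B := AdicCompletion (maximalIdeal R) R with hB
  have hnB : IsNoetherianRing B := Groth.Agent.S0543.result R (maximalIdeal R)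
  have hflat : Module.Flat R B := AdicCompletion.flat_of_isNoetherian _
  have hmB : maximalIdeal B = (maximalIdeal R).map (algebraMap R B) :=
    AdicCompletion.maximalIdeal_eq_map
  have hcB : IsAdicComplete (maximalIdeal B) B := inferInstance
  have hA : IsArtinian R (LocCoh.H I n M) := isArtinian_of_supportDim_le I (iface I) n M hd
  have htor := Matlis.isPowerTorsion_of_isArtinian (R := R) (LocCoh.H I n M)
  have hbij := Groth.Agent.S5158.result R (LocCoh.H I n M) htor
  obtain ⟨E⟩ := LCRows.nonempty_bcEquiv (B := B) I n M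
  have hdB : Module.supportDim B (B ⊗[R] M) ≤ n := by
    rw [Module.supportDim_eq_of_equiv
      (AdicCompletion.ofTensorProductEquivOfFiniteNoetherian (maximalIdeal R) M),
      K104.SemiCompl.supportDim_eq (maximalIdeal R) (by rw [IsLocalRing.ringJacobson_eq_maximalIdeal]) M]
    exact hd
  have h1 := le_radical (I.map (algebraMap R B)) n (B ⊗[R] M) hdB
  obtain ⟨k, hk⟩ := Ideal.exists_pow_le_of_le_radical_of_fg h1
    (IsNoetherian.noetherian (maximalIdeal B))
  refine ⟨k, fun x hx => ?_⟩
  let θ : LocCoh.H I n M ≃ₗ[R] B ⊗[R] LocCoh.H I n M :=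
    LinearEquiv.ofBijective (TensorProduct.mk R B (LocCoh.H I n M) 1) hbij
  let Φ : B →ₗ[R] (LocCoh.H I n M →ₗ[R] LocCoh.H I n M) :=
    (θ.symm.conj : Module.End R (B ⊗[R] LocCoh.H I n M) ≃ₗ[R]
      Module.End R (LocCoh.H I n M)).toLinearMap ∘ₗ
      (Algebra.lsmul R R (B ⊗[R] LocCoh.H I n M)).toLinearMap
  have hΦ : ∀ (c : B) (h : LocCoh.H I n M), Φ c h = θ.symm (c • θ h) := fun c h => rfl
  have hx' : algebraMap R B x ∈ I.map (algebraMap R B) ⊔
      Module.annihilator B (LocCoh.H (I.map (algebraMap R B)) n (B ⊗[R] M)) := by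
    apply hk
    rw [hmB, ← Ideal.map_pow]
    exact Ideal.mem_map_of_mem _ hx
  obtain ⟨a, ha, b, hb, hab⟩ := Submodule.mem_sup.mp hx'
  have h2 : x • (LinearMap.id : LocCoh.H I n M →ₗ[R] LocCoh.H I n M) = Φ (algebraMap R B x) := by
    ext h
    rw [hΦ, algebraMap_smul, map_smul, LinearEquiv.symm_apply_apply]
    rfl
  have h3 : Φ b = 0 := by
    ext h
    rw [hΦ]
    have h4 : b • θ h = 0 := by
      apply E.injective
      rw [map_smul, map_zero]
      exact Module.mem_annihilator.mp hb _
    rw [h4, map_zero]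
    rfl
  rw [h2, ← hab, map_add, h3, add_zero]
  have h4 : a ∈ (I • (⊤ : Submodule R B)) := by
    rw [Ideal.smul_top_eq_map]
    exact ha
  have h5 : Φ a ∈ (I • (⊤ : Submodule R B)).map Φ := Submodule.mem_map_of_mem h4
  rw [Submodule.map_smul''] at h5
  exact Submodule.smul_mono le_rfl le_top h5

/-- The main theorem: `Ext^i(R/I, H^n_I(M))` has finite length. -/
theorem isFiniteLength_ext (I : Ideal R) (n : ℕ) (M : Type u) [AddCommGroup M] [Module R M]
    [Module.Finite R M] (hd : Module.supportDim R M ≤ n) (i : ℕ) :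
    IsFiniteLength R (Abelian.Ext (ModuleCat.of R (R ⧸ I)) (ModuleCat.of R (LocCoh.H I n M)) i) := by
  have hA : IsArtinian R (ModuleCat.of R (LocCoh.H I n M)) :=
    isArtinian_of_supportDim_le I (iface I) n M hd
  have hA' := isArtinian_ext (ModuleCat.of R (R ⧸ I)) (ModuleCat.of R (LocCoh.H I n M)) i
  rw [K168.GenCM.isFiniteLength_iff_le_radical]
  obtain ⟨k, hk⟩ := exists_pow_mem I n M hd
  have h1 : maximalIdeal R ^ k ≤ Module.annihilator R
      (Abelian.Ext (ModuleCat.of R (R ⧸ I)) (ModuleCat.of R (LocCoh.H I n M)) i) := by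
    intro x hx
    rw [Module.mem_annihilator]
    intro e
    have h2 := hk x hx
    let Ψ : (LocCoh.H I n M →ₗ[R] LocCoh.H I n M) →ₗ[R]
        Abelian.Ext (ModuleCat.of R (R ⧸ I)) (ModuleCat.of R (LocCoh.H I n M)) i :=
      { toFun := fun f => e.comp (Abelian.Ext.mk₀ (ModuleCat.ofHom f)) (add_zero i)
        map_add' := fun f g => by
          rw [ModuleCat.ofHom_add, Abelian.Ext.mk₀_add, Abelian.Ext.comp_add]
        map_smul' := fun r f => by
          have : ModuleCat.ofHom (r • f) = r • ModuleCat.ofHom f := rfl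
          rw [this, Abelian.Ext.mk₀_smul, Abelian.Ext.comp_smul]
          rfl }
    have h3 : x • e = Ψ (x • LinearMap.id) := by
      rw [map_smul]
      congr 1
      exact (Abelian.Ext.comp_mk₀_id e).symm
    rw [h3]
    have h4 : Ψ (x • LinearMap.id) ∈ (I • (⊤ : Submodule R _)).map Ψ := Submodule.mem_map_of_mem h2
    rw [Submodule.map_smul''] at h4
    have h5 : ∀ z ∈ (I • ((⊤ : Submodule R
        (LocCoh.H I n M →ₗ[R] LocCoh.H I n M)).map Ψ)), z = 0 := by
      intro z hz
      refine Submodule.smul_induction_on hz ?_ ?_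
      · intro r hr y _
        exact Groth.Agent.Localalg.Depth.ext_smul_eq_zero_of_mem_annihilator_left
          (by rw [Ideal.annihilator_quotient]; exact hr) i y
      · intro a b ha hb
        rw [ha, hb, add_zero]
    exact h5 _ h4
  intro x hx
  exact ⟨k, h1 (Ideal.pow_mem_pow hx k)⟩

end Gen

end K168.CofinTop
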