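import Groth.Agent.Sga2.LocDual
import Groth.Agent.Sga2.ExtLoc
import Groth.Agent.Sga2.MatlisLen
import Groth.Agent.Localalg.GorExt
import Groth.Agent.Localalg.ExtLift
import Groth.Agent.Localalg.LCRows
import Groth.Agent.LoccohB.GorBasic
import Groth.Agent.Ega4A.CMCatenary
import Groth.Agent.CalgA.RegBasic
import Groth.Agent.S0299
import Groth.Agent.S0325
import Groth.Agent.S0341

/-!
# Local duality over a Gorenstein local ring

* `isGorDim`: Gorenstein local rings satisfy `Sga2.RegExt.IsGorDim`.
* `duality`: `H^i_m(M) ≃ Hom(Ext^{r-i}(M, A), E)`; `annihilator_H`; `subsingleton_H_iff`.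
* `subsingleton_H_iff_notMem_support`: `H^k_{pA_p}(M_p) = 0` iff `p ∉ Supp Ext^j(M, A)`, `ht p = j + k`.
* `subsingleton_local_H_iff`: `H^j_{pA_p}(M_p) = 0` iff every element of `H^j_p(M)` is killed by some
  `s ∉ p` (any Noetherian ring).
* `le_radical_annihilator_iff`: `J ≤ rad Ann H^i_m(M)` iff `H^{i - dim A/p}_{pA_p}(M_p) = 0` for `J ⊄ p`.
-/

set_option autoImplicit false
universe u

open CategoryTheory Abelian IsLocalRing
open Groth.Agent.Sga2

namespace K168.GorDual

theorem isGorDim (A : Type u) [CommRing A] [LocCoh.IsGorensteinLocalRing A] (r : ℕ)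
    (hr : ringKrullDim A = r) : RegExt.IsGorDim A r := by
  obtain ⟨h1, ⟨e⟩⟩ := Groth.Agent.Localalg.GorExt.ext_residueField r A hr
  refine ⟨?_, ?_⟩
  · intro N hN j hj
    have key : ∀ (N : Type u) [AddCommGroup N] [Module A N], IsFiniteLength A N →
        Subsingleton (Ext (ModuleCat.of A N) (ModuleCat.of A A) j) := by
      intro N _ _ hN
      induction hN with
      | of_subsingleton =>
        rename_i N _ _ _
        have h2 : Limits.IsZero (ModuleCat.of A N) := ModuleCat.isZero_of_subsingleton _
        refine ⟨fun x y => ?_⟩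
        have h3 : ∀ z : Ext (ModuleCat.of A N) (ModuleCat.of A A) j, z = 0 := by
          intro z
          rw [← Ext.mk₀_id_comp z, h2.eq_of_src (𝟙 _) 0, Ext.mk₀_zero, Ext.zero_comp]
        rw [h3 x, h3 y]
      | of_simple_quotient hP ih =>
        rename_i N _ _ P _
        have hS := RegExt.shortExact_of_submodule P
        obtain ⟨e'⟩ := RegExt.simple_equiv_quot (A := A) (N ⧸ P)
        have h2 : Subsingleton (Ext (ModuleCat.of A (N ⧸ P)) (ModuleCat.of A A) j) := by
          have h3 := h1 j hj
          refine ⟨fun x y => ?_⟩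
          have h4 : ∀ z : Ext (ModuleCat.of A (N ⧸ P)) (ModuleCat.of A A) j, z = 0 := by
            intro z
            let i : ModuleCat.of A (N ⧸ P) ≅ ModuleCat.of A (ResidueField A) := e'.toModuleIso
            have h5 : (Ext.mk₀ i.inv).comp z (zero_add j) = 0 := h3.elim _ _
            rw [← Ext.mk₀_id_comp z, ← i.hom_inv_id, ← Ext.mk₀_comp_mk₀_assoc, h5, Ext.comp_zero]
          rw [h4 x, h4 y]
        refine ⟨fun x y => ?_⟩
        have h3 : ∀ z : Ext (ModuleCat.of A N) (ModuleCat.of A A) j, z = 0 := by
          intro z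
          obtain ⟨w, hw⟩ := Ext.contravariant_sequence_exact₂ hS _ z (ih.elim _ _)
          rw [← hw]
          have : w = 0 := h2.elim _ _
          rw [this, Ext.comp_zero]
        rw [h3 x, h3 y]
    exact key N hN
  · change Module.length A (Ext (ModuleCat.of A (ResidueField A)) (ModuleCat.of A A) r) = 1
    rw [← e.length_eq]
    exact Module.length_eq_one_iff.mpr
      (isSimpleModule_iff_isCoatom.mpr (maximalIdeal.isMaximal A).out)

variable {A : Type u} [CommRing A] [LocCoh.IsGorensteinLocalRing A] {r : ℕ}

theorem duality (hr : ringKrullDim A = r) {E : Type u} [AddCommGroup E] [Module A E]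
    (f : ResidueField A →ₗ[A] E) (hf : InjHull.IsInjectiveHull f) (M : Type u) [AddCommGroup M]
    [Module A M] [Module.Finite A M] (i : ℕ) (hi : i ≤ r) :
    Nonempty (LocCoh.H (maximalIdeal A) i M ≃ₗ[A]
      (Ext (ModuleCat.of A M) (ModuleCat.of A A) (r - i) →ₗ[A] E)) := by
  obtain ⟨e⟩ := LocDual.local_duality (isGorDim A r hr)
    (fun N _ => Groth.Agent.S0325.result A (maximalIdeal A) r hr.le N (r + 1) (Nat.lt_succ_self r))
    f hf (r - i) (Nat.sub_le _ _) (ModuleCat.of A M)
  rw [Nat.sub_sub_self hi] at e
  exact ⟨e⟩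

theorem annihilator_H (hr : ringKrullDim A = r) (M : Type u) [AddCommGroup M]
    [Module A M] [Module.Finite A M] (i : ℕ) (hi : i ≤ r) :
    Module.annihilator A (LocCoh.H (maximalIdeal A) i M) =
      Module.annihilator A (Ext (ModuleCat.of A M) (ModuleCat.of A A) (r - i)) := by
  obtain ⟨E, _, _, f, hf⟩ := Groth.Agent.S0299.result (R := A) (ResidueField A)
  obtain ⟨e⟩ := duality hr f hf M i hi
  rw [e.annihilator_eq]
  ext a
  rw [Module.mem_annihilator, Module.mem_annihilator]
  constructor
  · intro h x
    by_contra hx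
    obtain ⟨φ, hφ⟩ := Groth.Agent.Localalg.Matlis.exists_apply_ne_zero hf hx
    apply hφ
    have := LinearMap.congr_fun (h φ) x
    rwa [LinearMap.smul_apply, ← map_smul] at this
  · intro h φ
    ext x
    rw [LinearMap.smul_apply, ← map_smul, h x, map_zero]
    rfl

theorem subsingleton_H_iff (hr : ringKrullDim A = r) (M : Type u) [AddCommGroup M]
    [Module A M] [Module.Finite A M] (i : ℕ) (hi : i ≤ r) :
    Subsingleton (LocCoh.H (maximalIdeal A) i M) ↔
      Subsingleton (Ext (ModuleCat.of A M) (ModuleCat.of A A) (r - i)) := by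
  obtain ⟨E, _, _, f, hf⟩ := Groth.Agent.S0299.result (R := A) (ResidueField A)
  obtain ⟨e⟩ := duality hr f hf M i hi
  rw [e.toEquiv.subsingleton_congr, MatlisLen.subsingleton_dual_iff hf]

/-- `Ext^j(M, A) = 0` above the dimension. -/
theorem subsingleton_ext_of_lt (hr : ringKrullDim A = r) (M : ModuleCat.{u} A) (j : ℕ) (hj : r < j) :
    Subsingleton (Ext M (ModuleCat.of A A) j) := by
  have := Groth.Agent.Localalg.ExtLift.hasInjectiveDimensionLT_of_gorenstein r A hr
  exact HasInjectiveDimensionLT.subsingleton _ (r + 1) j hj M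

/-- Local duality at a prime of a Gorenstein ring. -/
theorem subsingleton_H_iff_notMem_support (R : Type u) [CommRing R] [LocCoh.IsGorensteinRing R]
    (M : Type u) [AddCommGroup M] [Module R M] [Module.Finite R M] (p : PrimeSpectrum R) (j k : ℕ)
    (hp : p.asIdeal.height = (j + k : ℕ)) :
    Subsingleton (LocCoh.H (IsLocalRing.maximalIdeal (Localization.AtPrime p.asIdeal)) k
      (LocalizedModule p.asIdeal.primeCompl M)) ↔
      p ∉ Module.support R (Abelian.Ext (ModuleCat.of R M) (ModuleCat.of R R) j) := by
  have hreg : LocCoh.IsGorensteinLocalRing (Localization.AtPrime p.asIdeal) :=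
    LocCoh.IsGorensteinRing.isGorensteinLocalRing_localization p.asIdeal
  have hd : ringKrullDim (Localization.AtPrime p.asIdeal) = (j + k : ℕ) := by
    rw [IsLocalization.AtPrime.ringKrullDim_eq_height p.asIdeal (Localization.AtPrime p.asIdeal), hp]
    rfl
  rw [subsingleton_H_iff hd (LocalizedModule p.asIdeal.primeCompl M) k (Nat.le_add_left _ _),
    Nat.add_sub_cancel, ← ExtLoc.subsingleton_localized_iff]

theorem notMem_support_of_lt (R : Type u) [CommRing R] [LocCoh.IsGorensteinRing R]
    (M : Type u) [AddCommGroup M] [Module R M] [Module.Finite R M] (p : PrimeSpectrum R) (h j : ℕ)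
    (hp : p.asIdeal.height = h) (hj : h < j) :
      p ∉ Module.support R (Abelian.Ext (ModuleCat.of R M) (ModuleCat.of R R) j) := by
  have hreg : LocCoh.IsGorensteinLocalRing (Localization.AtPrime p.asIdeal) :=
    LocCoh.IsGorensteinRing.isGorensteinLocalRing_localization p.asIdeal
  have hd : ringKrullDim (Localization.AtPrime p.asIdeal) = h := by
    rw [IsLocalization.AtPrime.ringKrullDim_eq_height p.asIdeal (Localization.AtPrime p.asIdeal), hp]
    rfl
  rw [← ExtLoc.subsingleton_localized_iff]
  exact subsingleton_ext_of_lt hd _ j hj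

/-- `dim A_p + dim A/p = dim A`. -/
theorem exists_dims (hr : ringKrullDim A = r) (p : PrimeSpectrum A) :
    ∃ s e : ℕ, p.asIdeal.height = s ∧ ringKrullDim (A ⧸ p.asIdeal) = e ∧ s + e = r := by
  have hcm := Groth.Agent.S0341.result A
  have h1 : LocCoh.IsCohenMacaulayModule A A := hcm.supportDim_eq_depth
  have h2 : Module.support A A = Set.univ := by
    rw [Set.eq_univ_iff_forall]
    intro q
    rw [Module.mem_support_iff_exists_annihilator]
    refine ⟨1, ?_⟩
    intro a ha
    rw [Submodule.mem_annihilator_span_singleton] at ha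
    have : a = 0 := by simpa using ha
    rw [this]; exact q.asIdeal.zero_mem
  have h3 := Groth.Agent.Ega4A.CMCatenary.height_add_ringKrullDim_quotient h1 h2 p.asIdeal
  have h4 : p.asIdeal.height ≠ ⊤ := Ideal.height_ne_top_of_isPrime
  obtain ⟨s, hs⟩ := ENat.ne_top_iff_exists.mp h4
  have : Nontrivial (A ⧸ p.asIdeal) := Ideal.Quotient.nontrivial_iff.mpr p.isPrime.ne_top
  have : IsLocalRing (A ⧸ p.asIdeal) :=
    IsLocalRing.of_surjective' (Ideal.Quotient.mk _) Ideal.Quotient.mk_surjective
  obtain ⟨e, he⟩ := Groth.Agent.CalgA.RegBasic.ringKrullDim_eq_natCast (A ⧸ p.asIdeal)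
  refine ⟨s, e, hs.symm, he, ?_⟩
  rw [← hs, he, hr] at h3
  exact_mod_cast h3

/-- `J ≤ rad Ann N` iff the primes of the support of `N` contain `J`. -/
theorem le_radical_annihilator_iff_support {R : Type u} [CommRing R] (N : Type u) [AddCommGroup N]
    [Module R N] [Module.Finite R N] (J : Ideal R) :
    J ≤ (Module.annihilator R N).radical ↔
      ∀ p : PrimeSpectrum R, ¬ J ≤ p.asIdeal → p ∉ Module.support R N := by
  constructor
  · intro h p hp hs
    exact hp (h.trans ((Ideal.IsPrime.radical_le_iff p.isPrime).mpr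
      (Module.annihilator_le_of_mem_support hs)))
  · intro h
    rw [Ideal.radical_eq_sInf]
    refine le_sInf ?_
    rintro q ⟨hq, hqp⟩
    by_contra hJ
    refine h ⟨q, hqp⟩ hJ ?_
    rw [Module.mem_support_iff_of_finite]
    exact hq

theorem finite_ext (M : Type u) [AddCommGroup M] [Module A M] [Module.Finite A M] (j : ℕ) :
    Module.Finite A (Ext (ModuleCat.of A M) (ModuleCat.of A A) j) := inferInstance

/-- Gorenstein case of the main criterion. -/
theorem le_radical_annihilator_iff (M : Type u) [AddCommGroup M] [Module A M] [Module.Finite A M]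
    (J : Ideal A) (i : ℕ) :
    J ≤ (Module.annihilator A (LocCoh.H (maximalIdeal A) i M)).radical ↔
      ∀ p : PrimeSpectrum A, ¬ J ≤ p.asIdeal → ∀ j : ℕ,
        (j : WithBot ℕ∞) + ringKrullDim (A ⧸ p.asIdeal) = i →
        Subsingleton (LocCoh.H (maximalIdeal (Localization.AtPrime p.asIdeal)) j
          (LocalizedModule p.asIdeal.primeCompl M)) := by
  obtain ⟨r, hr⟩ := Groth.Agent.CalgA.RegBasic.ringKrullDim_eq_natCast A
  have hG : LocCoh.IsGorensteinRing A :=
    Groth.Agent.LoccohB.GorBasic.isGorensteinRing_of_isGorensteinLocalRing inferInstance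
  by_cases hi : i ≤ r
  · rw [annihilator_H hr M i hi, le_radical_annihilator_iff_support]
    refine forall₂_congr fun p hp => ?_
    obtain ⟨s, e, hs, he, hse⟩ := exists_dims hr p
    rw [he]
    by_cases hei : e ≤ i
    · have h1 := subsingleton_H_iff_notMem_support A M p (r - i) (i - e) (by
        rw [hs]
        congr 1
        omega)
      rw [← h1]
      constructor
      · intro h j hj
        have h2 : j + e = i := by exact_mod_cast hj
        have h3 : j = i - e := by omega
        rw [h3]
        exact h
      · intro h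
        refine h (i - e) ?_
        have h2 : i - e + e = i := by omega
        exact_mod_cast h2
    · constructor
      · intro _ j hj
        have h2 : j + e = i := by exact_mod_cast hj
        omega
      · intro _
        exact notMem_support_of_lt A M p s (r - i) hs (by omega)
  · constructor
    · intro _ p _ j hj
      obtain ⟨s, e, hs, he, hse⟩ := exists_dims hr p
      rw [he] at hj
      have h2 : j + e = i := by exact_mod_cast hj
      have hd : ringKrullDim (Localization.AtPrime p.asIdeal) = s := by
        rw [IsLocalization.AtPrime.ringKrullDim_eq_height p.asIdeal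
          (Localization.AtPrime p.asIdeal), hs]
        rfl
      have : IsNoetherianRing (Localization.AtPrime p.asIdeal) :=
        IsLocalization.isNoetherianRing p.asIdeal.primeCompl _ inferInstance
      exact Groth.Agent.S0325.result _ _ s hd.le _ j (by omega)
    · intro _
      have := Groth.Agent.S0325.result A (maximalIdeal A) r hr.le M i (by omega)
      have h1 : Module.annihilator A (LocCoh.H (maximalIdeal A) i M) = ⊤ :=
        Module.annihilator_eq_top_iff.mpr this
      rw [h1, Ideal.radical_top]
      exact le_top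

end K168.GorDual
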