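import Groth.Agent.LocCoh.K168.GorDual
import Groth.Agent.Localalg.LCIface

/-!
# Annihilators of local cohomology over homomorphic images of Gorenstein local rings

* `subsingleton_local_H_iff`: `H^j_{pA_p}(M_p) = 0` iff every element of `H^j_p(M)` is killed by some
  `s ∉ p` (any Noetherian ring).
* `le_radical_annihilator_iff_quot`: for `R` an image of a Gorenstein local ring, `J ≤ rad Ann H^i_m(M)`
  iff `H^{i - dim R/p}_{pR_p}(M_p) = 0` for all `p` not containing `J`.
-/

set_option autoImplicit false
universe u

open IsLocalRing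

namespace K168.GorQuot

/-- Vanishing of local cohomology of the localized module, elementwise. -/
theorem subsingleton_local_H_iff {R : Type u} [CommRing R] [IsNoetherianRing R] (p : Ideal R)
    [p.IsPrime] (j : ℕ) (M : Type u) [AddCommGroup M] [Module R M] :
    Subsingleton (LocCoh.H (maximalIdeal (Localization.AtPrime p)) j
      (LocalizedModule p.primeCompl M)) ↔
      ∀ x : LocCoh.H p j M, ∃ s : R, s ∉ p ∧ s • x = 0 := by
  obtain ⟨e⟩ := Groth.Agent.Localalg.LCRows.nonempty_localizationEquiv p p.primeCompl j M
  have h : p.map (algebraMap R (Localization p.primeCompl)) =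
      maximalIdeal (Localization.AtPrime p) := Localization.AtPrime.map_eq_maximalIdeal
  rw [h] at e
  rw [← e.toEquiv.subsingleton_congr, LocalizedModule.subsingleton_iff]
  refine forall_congr' fun x => ?_
  constructor
  · rintro ⟨s, hs, h1⟩
    exact ⟨s, hs, h1⟩
  · rintro ⟨s, hs, h1⟩
    exact ⟨s, hs, h1⟩

section Change

variable {R' R : Type u} [CommRing R'] [CommRing R] [IsNoetherianRing R'] [IsNoetherianRing R]
  [Algebra R' R] (hg : Function.Surjective (algebraMap R' R))
  (M : Type u) [AddCommGroup M] [Module R M] [Module R' M] [IsScalarTower R' R M]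

include hg

theorem exists_equiv (I : Ideal R) (j : ℕ) :
    ∃ e : LocCoh.H I j M ≃+ LocCoh.H (I.comap (algebraMap R' R)) j M,
      ∀ (a : R') (x : LocCoh.H I j M), e (algebraMap R' R a • x) = a • e x := by
  have h := Groth.Agent.Localalg.LCRows.nonempty_resEquiv (B := R) (I.comap (algebraMap R' R)) j M
  rwa [Ideal.map_comap_of_surjective _ hg] at h

theorem annihilator_H_comap (I : Ideal R) (j : ℕ) :
    Module.annihilator R' (LocCoh.H (I.comap (algebraMap R' R)) j M) =
      (Module.annihilator R (LocCoh.H I j M)).comap (algebraMap R' R) := by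
  obtain ⟨e, he⟩ := exists_equiv hg M I j
  ext a
  rw [Ideal.mem_comap, Module.mem_annihilator, Module.mem_annihilator]
  constructor
  · intro h x
    apply e.injective
    rw [he, h, map_zero]
  · intro h y
    obtain ⟨x, rfl⟩ := e.surjective y
    rw [← he, h, map_zero]

theorem local_iff (p : Ideal R) [p.IsPrime] (j : ℕ) :
    Subsingleton (LocCoh.H (maximalIdeal (Localization.AtPrime p)) j
      (LocalizedModule p.primeCompl M)) ↔
    Subsingleton (LocCoh.H (maximalIdeal (Localization.AtPrime (p.comap (algebraMap R' R)))) j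
      (LocalizedModule (p.comap (algebraMap R' R)).primeCompl M)) := by
  rw [subsingleton_local_H_iff, subsingleton_local_H_iff]
  obtain ⟨e, he⟩ := exists_equiv hg M p j
  constructor
  · intro h y
    obtain ⟨x, rfl⟩ := e.surjective y
    obtain ⟨s, hs, h1⟩ := h x
    obtain ⟨t, rfl⟩ := hg s
    exact ⟨t, hs, by rw [← he, h1, map_zero]⟩
  · intro h x
    obtain ⟨t, ht, h1⟩ := h (e x)
    exact ⟨algebraMap R' R t, ht, e.injective (by rw [he, h1, map_zero])⟩

omit hg [IsNoetherianRing R] in
theorem local_zero (P : Ideal R') [P.IsPrime] (hP : ¬ RingHom.ker (algebraMap R' R) ≤ P) (j : ℕ) :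
    Subsingleton (LocCoh.H (maximalIdeal (Localization.AtPrime P)) j
      (LocalizedModule P.primeCompl M)) := by
  rw [subsingleton_local_H_iff]
  obtain ⟨t, ht, htP⟩ := SetLike.not_le_iff_exists.mp hP
  intro x
  refine ⟨t, htP, ?_⟩
  rw [← Groth.Agent.Localalg.LCIface.lin]
  have h1 : LinearMap.lsmul R' M t = 0 := by
    ext m
    change t • m = 0
    rw [← algebraMap_smul R t m, RingHom.mem_ker.mp ht, zero_smul]
  rw [h1]
  exact Groth.Agent.LoccohA.LES.hmap_zero P j x

omit [IsNoetherianRing R] [IsNoetherianRing R'] in
theorem ringKrullDim_comap (p : Ideal R) :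
    ringKrullDim (R' ⧸ p.comap (algebraMap R' R)) = ringKrullDim (R ⧸ p) := by
  refine ringKrullDim_eq_of_ringEquiv (RingEquiv.ofBijective
    (Ideal.quotientMap p (algebraMap R' R) le_rfl) ⟨Ideal.quotientMap_injective, ?_⟩)
  exact Ideal.quotientMap_surjective hg

end Change

/-- The main criterion for images of Gorenstein local rings. -/
theorem le_radical_annihilator_iff_quot (R : Type u) [CommRing R] [IsNoetherianRing R]
    [IsLocalRing R] (R' : Type u) [CommRing R'] [LocCoh.IsGorensteinLocalRing R'] (g : R' →+* R)
    (hg : Function.Surjective g) (M : Type u) [AddCommGroup M] [Module R M] [Module.Finite R M]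
    (J : Ideal R) (i : ℕ) :
    J ≤ (Module.annihilator R (LocCoh.H (maximalIdeal R) i M)).radical ↔
      ∀ (p : Ideal R) [p.IsPrime], ¬ J ≤ p → ∀ j : ℕ,
        (j : WithBot ℕ∞) + ringKrullDim (R ⧸ p) = i →
        Subsingleton (LocCoh.H (maximalIdeal (Localization.AtPrime p)) j
          (LocalizedModule p.primeCompl M)) := by
  let _ : Algebra R' R := g.toAlgebra
  let _ : Module R' M := Module.compHom M g
  have ht : IsScalarTower R' R M := by
    constructor
    intro a b x
    change (g a * b) • x = g a • (b • x)
    rw [mul_smul]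
  have hg' : Function.Surjective (algebraMap R' R) := hg
  have hfin : Module.Finite R' M := by
    have : Module.Finite R' R := Module.Finite.of_surjective (Algebra.linearMap R' R) hg
    exact Module.Finite.trans R M
  have hloc : IsLocalHom (algebraMap R' R) := IsLocalHom.of_surjective _ hg'
  have hm : (maximalIdeal R).comap (algebraMap R' R) = maximalIdeal R' :=
    ((IsLocalRing.local_hom_TFAE (algebraMap R' R)).out 0 4).mp hloc
  have h1 := annihilator_H_comap hg' M (maximalIdeal R) i
  rw [hm] at h1
  have h2 : J ≤ (Module.annihilator R (LocCoh.H (maximalIdeal R) i M)).radical ↔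
      J.comap (algebraMap R' R) ≤
        (Module.annihilator R' (LocCoh.H (maximalIdeal R') i M)).radical := by
    rw [h1, ← Ideal.comap_radical]
    constructor
    · exact fun h => Ideal.comap_mono h
    · intro h
      rw [← Ideal.map_comap_of_surjective _ hg' J]
      exact Ideal.map_le_iff_le_comap.mpr h
  rw [h2, K168.GorDual.le_radical_annihilator_iff]
  constructor
  · intro h p hp hJp j hj
    rw [local_iff hg' M p j]
    refine h ⟨p.comap (algebraMap R' R), inferInstance⟩ ?_ j ?_
    · intro h3
      apply hJp
      rw [← Ideal.map_comap_of_surjective _ hg' J]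
      exact Ideal.map_le_iff_le_comap.mpr h3
    · rw [← hj]
      congr 1
      exact ringKrullDim_comap hg' p
  · intro h P hJP j hj
    by_cases hker : RingHom.ker (algebraMap R' R) ≤ P.asIdeal
    swap
    · exact local_zero M P.asIdeal hker j
    have hmem : P ∈ PrimeSpectrum.zeroLocus (RingHom.ker (algebraMap R' R) : Set R') := hker
    rw [← range_comap_of_surjective R (algebraMap R' R) hg'] at hmem
    obtain ⟨p, rfl⟩ := hmem
    change Subsingleton (LocCoh.H (maximalIdeal (Localization.AtPrime
      (p.asIdeal.comap (algebraMap R' R)))) j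
      (LocalizedModule (p.asIdeal.comap (algebraMap R' R)).primeCompl M))
    rw [← local_iff hg' M p.asIdeal j]
    refine h p.asIdeal (fun h3 => hJP (Ideal.comap_mono h3)) j ?_
    rw [← hj]
    congr 1
    exact (ringKrullDim_comap hg' p.asIdeal).symm

end K168.GorQuot
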