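import Mathlib.RingTheory.Kaehler.Basic
import Mathlib.RingTheory.Flat.EquationalCriterion
import Mathlib.LinearAlgebra.ExteriorPower.Basis
import Mathlib.RingTheory.Smooth.Kaehler
import Groth.Prelude.Def_Smoothing

/-!
# Flatness of Kähler differentials of ind-smooth algebras, flatness of exterior powers

* `flat_kaehler_of_indSmooth`: `Ω[S⁄R]` is flat over `S` if `S` is ind-smooth over the Noetherian ring `R`.
* `flat_exteriorPower`: exterior powers of flat modules over Noetherian rings are flat.
-/

set_option autoImplicit false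
universe u

open KaehlerDifferential TensorProduct Finsupp

namespace K168.OmegaFlat

section Kaehler

variable {R S : Type u} [CommRing R] [CommRing S] [Algebra R S]

/-- `(A →₀ A) → (S →₀ S)` -/
noncomputable def fm (A : Subalgebra R S) : (A →₀ A) →ₗ[A] (S →₀ S) :=
  Finsupp.mapRange.linearMap (Algebra.linearMap A S) ∘ₗ Finsupp.lmapDomain A A (algebraMap A S)

lemma fm_single (A : Subalgebra R S) (a b : A) : fm A (single a b) = single (a : S) (b : S) := by
  simp [fm]

lemma fm_injective (A : Subalgebra R S) : Function.Injective (fm A) := by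
  have h1 : Function.Injective (algebraMap A S) := Subtype.val_injective
  exact (Finsupp.mapRange_injective _ (map_zero _) h1).comp (Finsupp.mapDomain_injective h1)

lemma exists_lift (z : S →₀ S) : ∃ s : Finset S, ∀ A : Subalgebra R S, (s : Set S) ⊆ A →
    ∃ z' : A →₀ A, fm A z' = z := by
  classical
  induction z using Finsupp.induction_linear with
  | zero => exact ⟨∅, fun A _ => ⟨0, map_zero _⟩⟩
  | add z w hz hw =>
    obtain ⟨s, hs⟩ := hz
    obtain ⟨t, ht⟩ := hw
    refine ⟨s ∪ t, fun A hA => ?_⟩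
    rw [Finset.coe_union, Set.union_subset_iff] at hA
    obtain ⟨z', hz'⟩ := hs A hA.1
    obtain ⟨w', hw'⟩ := ht A hA.2
    exact ⟨z' + w', by rw [map_add, hz', hw']⟩
  | single a b =>
    refine ⟨{a, b}, fun A hA => ?_⟩
    refine ⟨single ⟨a, hA (by simp)⟩ ⟨b, hA (by simp)⟩, fm_single A _ _⟩

lemma exists_kerTotal (z : S →₀ S) (hz : z ∈ kerTotal R S) :
    ∃ s : Finset S, ∀ A : Subalgebra R S, (s : Set S) ⊆ A → ∃ z' ∈ kerTotal R A, fm A z' = z := by
  classical
  induction hz using Submodule.span_induction with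
  | mem z hz =>
    rcases hz with (⟨⟨x, y⟩, rfl⟩ | ⟨⟨x, y⟩, rfl⟩) | ⟨x, rfl⟩
    · refine ⟨{x, y}, fun A hA => ?_⟩
      have hx : x ∈ A := hA (by simp)
      have hy : y ∈ A := hA (by simp)
      refine ⟨_, Submodule.subset_span (Or.inl (Or.inl ⟨(⟨x, hx⟩, ⟨y, hy⟩), rfl⟩)), ?_⟩
      simp only [map_add, map_sub, fm_single]
      rfl
    · refine ⟨{x, y}, fun A hA => ?_⟩
      have hx : x ∈ A := hA (by simp)
      have hy : y ∈ A := hA (by simp)
      refine ⟨_, Submodule.subset_span (Or.inl (Or.inr ⟨(⟨x, hx⟩, ⟨y, hy⟩), rfl⟩)), ?_⟩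
      simp only [map_add, map_sub, fm_single]
      rfl
    · refine ⟨∅, fun A hA => ?_⟩
      refine ⟨_, Submodule.subset_span (Or.inr ⟨x, rfl⟩), ?_⟩
      simp only [fm_single]
      rfl
  | zero => exact ⟨∅, fun A _ => ⟨0, Submodule.zero_mem _, map_zero _⟩⟩
  | add z w _ _ hz hw =>
    obtain ⟨s, hs⟩ := hz
    obtain ⟨t, ht⟩ := hw
    refine ⟨s ∪ t, fun A hA => ?_⟩
    rw [Finset.coe_union, Set.union_subset_iff] at hA
    obtain ⟨z', hz', h1⟩ := hs A hA.1
    obtain ⟨w', hw', h2⟩ := ht A hA.2
    exact ⟨z' + w', Submodule.add_mem _ hz' hw', by rw [map_add, h1, h2]⟩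
  | smul a z _ hz =>
    obtain ⟨s, hs⟩ := hz
    refine ⟨insert a s, fun A hA => ?_⟩
    rw [Finset.coe_insert, Set.insert_subset_iff] at hA
    obtain ⟨z', hz', h1⟩ := hs A hA.2
    exact ⟨(⟨a, hA.1⟩ : A) • z', Submodule.smul_mem _ _ hz', by
      rw [map_smul, h1]
      rfl⟩

/-- The additive map `Ω[A⁄R] → Ω[B⁄R]` attached to `A →ₐ[R] B`. -/
noncomputable def mapK {A B : Type u} [CommRing A] [Algebra R A] [CommRing B] [Algebra R B]
    (φ : A →ₐ[R] B) : Ω[A⁄R] →ₛₗ[φ.toRingHom] Ω[B⁄R] :=
  letI := φ.toRingHom.toAlgebra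
  haveI : IsScalarTower R A B := IsScalarTower.of_algebraMap_eq fun r => (φ.commutes r).symm
  { toFun := KaehlerDifferential.map R R A B
    map_add' := map_add _
    map_smul' := fun a x => by
      rw [map_smul]
      rfl }

lemma mapK_D {A B : Type u} [CommRing A] [Algebra R A] [CommRing B] [Algebra R B]
    (φ : A →ₐ[R] B) (a : A) : mapK φ (D R A a) = D R B (φ a) := by
  let := φ.toRingHom.toAlgebra
  have : IsScalarTower R A B := IsScalarTower.of_algebraMap_eq fun r => (φ.commutes r).symm
  exact KaehlerDifferential.map_D R R A B a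

lemma mapK_linearCombination (A : Subalgebra R S) (z : A →₀ A) :
    mapK A.val (linearCombination A (D R A) z) = linearCombination S (D R S) (fm A z) := by
  induction z using Finsupp.induction_linear with
  | zero => simp
  | add z w hz hw => rw [map_add, map_add, map_add, map_add, hz, hw]
  | single a b =>
    rw [fm_single, linearCombination_single, linearCombination_single, map_smulₛₗ, mapK_D]
    rfl

lemma mapK_comp {A B : Type u} [CommRing A] [Algebra R A] [CommRing B] [Algebra R B]
    (φ : A →ₐ[R] B) (ψ : B →ₐ[R] S) (χ : A →ₐ[R] S) (h : ψ.comp φ = χ) (x : Ω[A⁄R]) :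
    mapK ψ (mapK φ x) = mapK χ x := by
  obtain ⟨z, rfl⟩ := KaehlerDifferential.linearCombination_surjective R A x
  induction z using Finsupp.induction_linear with
  | zero => simp
  | add z w hz hw => rw [map_add, map_add, map_add, map_add, hz, hw]
  | single a b =>
    rw [linearCombination_single, map_smulₛₗ, mapK_D, map_smulₛₗ, mapK_D, map_smulₛₗ, mapK_D, ← h]
    rfl

/-- Differentials of ind-smooth algebras are flat. -/
theorem flat_kaehler_of_indSmooth [IsNoetherianRing R] (h : Smoothing.IndSmooth R S) :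
    Module.Flat S Ω[S⁄R] := by
  classical
  refine Module.Flat.of_forall_isTrivialRelation ?_
  intro l f x hfx
  choose ζ hζ using fun i => KaehlerDifferential.linearCombination_surjective R S (x i)
  have h0 : (∑ i, f i • ζ i) ∈ kerTotal R S := by
    rw [← kerTotal_eq, LinearMap.mem_ker, map_sum, ← hfx]
    refine Finset.sum_congr rfl fun i _ => ?_
    rw [map_smul, hζ]
  obtain ⟨s, hs⟩ := exists_kerTotal _ h0
  choose t ht using fun i => exists_lift (R := R) (ζ i)
  let T : Finset S := s ∪ (Finset.univ.biUnion t) ∪ Finset.univ.image f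
  let A : Subalgebra R S := Algebra.adjoin R (T : Set S)
  have hT : (T : Set S) ⊆ A := Algebra.subset_adjoin
  have hsA : (s : Set S) ⊆ A := fun y hy => hT (by
    rw [Finset.mem_coe] at hy ⊢
    exact Finset.mem_union_left _ (Finset.mem_union_left _ hy))
  have htA : ∀ i, (t i : Set S) ⊆ A := fun i y hy => hT (by
    rw [Finset.mem_coe] at hy ⊢
    exact Finset.mem_union_left _ (Finset.mem_union_right _
      (Finset.mem_biUnion.mpr ⟨i, Finset.mem_univ _, hy⟩)))
  have hfA : ∀ i, f i ∈ A := fun i => hT (by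
    rw [Finset.mem_coe]
    exact Finset.mem_union_right _ (Finset.mem_image_of_mem f (Finset.mem_univ i)))
  choose ζ' hζ' using fun i => ht i A (htA i)
  obtain ⟨z', hz', hz''⟩ := hs A hsA
  let f' : Fin l → A := fun i => ⟨f i, hfA i⟩
  have h1 : (∑ i, f' i • ζ' i) = z' := by
    apply fm_injective A
    rw [hz'', map_sum]
    refine Finset.sum_congr rfl fun i _ => ?_
    rw [map_smul, hζ']
    rfl
  let x' : Fin l → Ω[A⁄R] := fun i => linearCombination A (D R A) (ζ' i)
  have h2 : ∑ i, f' i • x' i = 0 := by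
    rw [← h1, ← kerTotal_eq, LinearMap.mem_ker, map_sum] at hz'
    rw [← hz']
    exact Finset.sum_congr rfl fun i _ => (map_smul _ _ _).symm
  have hx' : ∀ i, mapK A.val (x' i) = x i := by
    intro i
    rw [← hζ i, ← hζ' i]
    exact mapK_linearCombination A _
  have hfg : Algebra.FiniteType R A := by
    rw [← Subalgebra.fg_iff_finiteType]
    exact ⟨T, rfl⟩
  have hfp : Algebra.FinitePresentation R A := Algebra.FinitePresentation.of_finiteType.mp hfg
  obtain ⟨B, _, _, hB, g, k, hgk⟩ := h A hfp A.val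
  have : Module.Projective B Ω[B⁄R] := inferInstance
  have h3 : ∑ i, g (f' i) • mapK g (x' i) = 0 := by
    have h4 := congrArg (mapK g) h2
    rw [map_zero, map_sum] at h4
    rw [← h4]
    exact Finset.sum_congr rfl fun i _ => (map_smulₛₗ _ _ _).symm
  obtain ⟨n, a, y, hy, hf⟩ := Module.Flat.isTrivialRelation_of_sum_smul_eq_zero h3
  refine ⟨n, fun i j => k (a i j), fun j => mapK k (y j), fun i => ?_, fun j => ?_⟩
  · have h6 : mapK g (x' i) = ∑ j, a i j • y j := hy i
    rw [← hx' i, ← mapK_comp g k A.val hgk (x' i), h6, map_sum]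
    exact Finset.sum_congr rfl fun j _ => map_smulₛₗ _ _ _
  · have h5 := congrArg k (hf j)
    rw [map_zero, map_sum] at h5
    rw [← h5]
    refine Finset.sum_congr rfl fun i _ => ?_
    rw [map_mul]
    congr 1
    exact (DFunLike.congr_fun hgk (f' i)).symm

end Kaehler

section Exterior

variable {R : Type u} [CommRing R] {M : Type u} [AddCommGroup M] [Module R M]

/-- `((Fin n → N) →₀ R) → ((Fin n → M) →₀ R)` -/
noncomputable def em (n : ℕ) (N : Submodule R M) :
    ((Fin n → N) →₀ R) →ₗ[R] ((Fin n → M) →₀ R) :=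
  Finsupp.lmapDomain R R (fun m i => (m i : M))

lemma em_single (n : ℕ) (N : Submodule R M) (m : Fin n → N) (r : R) :
    em n N (single m r) = single (fun i => (m i : M)) r := by
  simp [em]

lemma em_injective (n : ℕ) (N : Submodule R M) : Function.Injective (em n N) :=
  Finsupp.mapDomain_injective fun _ _ h => funext fun i => Subtype.ext (congrFun h i)

/-- the relations of the exterior power -/
noncomputable def rel (n : ℕ) (M : Type u) [AddCommGroup M] [Module R M] : Submodule R ((Fin n → M) →₀ R) :=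
  Submodule.span R (Set.range (exteriorPower.presentation.relations R (Fin n) M).relation)

lemma exists_lift_ext (n : ℕ) (z : (Fin n → M) →₀ R) : ∃ s : Finset M, ∀ N : Submodule R M,
    (s : Set M) ⊆ N → ∃ z' : (Fin n → N) →₀ R, em n N z' = z := by
  classical
  induction z using Finsupp.induction_linear with
  | zero => exact ⟨∅, fun A _ => ⟨0, map_zero _⟩⟩
  | add z w hz hw =>
    obtain ⟨s, hs⟩ := hz
    obtain ⟨t, ht⟩ := hw
    refine ⟨s ∪ t, fun A hA => ?_⟩
    rw [Finset.coe_union, Set.union_subset_iff] at hA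
    obtain ⟨z', hz'⟩ := hs A hA.1
    obtain ⟨w', hw'⟩ := ht A hA.2
    exact ⟨z' + w', by rw [map_add, hz', hw']⟩
  | single a b =>
    refine ⟨Finset.univ.image a, fun A hA => ?_⟩
    have h : ∀ i, a i ∈ A := fun i => hA (by simp)
    exact ⟨single (fun i => ⟨a i, h i⟩) b, em_single n A _ _⟩

lemma coe_update {n : ℕ} (N : Submodule R M) (m : Fin n → N) (i : Fin n) (x : N) :
    (fun j => ((Function.update m i x j : N) : M)) =
      Function.update (fun j => (m j : M)) i (x : M) := by
  funext j
  by_cases h : j = i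
  · subst h
    simp
  · simp [h]

lemma exists_rel (n : ℕ) (z : (Fin n → M) →₀ R) (hz : z ∈ rel n M) :
    ∃ s : Finset M, ∀ N : Submodule R M, (s : Set M) ⊆ N → ∃ z' ∈ rel (R := R) n N,
      em n N z' = z := by
  classical
  induction hz using Submodule.span_induction with
  | mem z hz =>
    rcases hz with ⟨⟨m, i, x, y⟩ | ⟨m, i, r, x⟩ | ⟨m, i, j, hij, hne⟩, rfl⟩
    · refine ⟨Finset.univ.image m ∪ {x, y}, fun N hN => ?_⟩
      rw [Finset.coe_union, Set.union_subset_iff] at hN
      have hm : ∀ i, m i ∈ N := fun i => hN.1 (by simp)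
      have hx : x ∈ N := hN.2 (by simp)
      have hy : y ∈ N := hN.2 (by simp)
      refine ⟨_, Submodule.subset_span ⟨.add (fun i => ⟨m i, hm i⟩) i ⟨x, hx⟩ ⟨y, hy⟩, rfl⟩, ?_⟩
      simp only [exteriorPower.presentation.relations_relation, map_add, map_sub]
      erw [em_single, em_single, em_single]
      rw [coe_update, coe_update, coe_update]
      rfl
    · refine ⟨Finset.univ.image m ∪ {x}, fun N hN => ?_⟩
      rw [Finset.coe_union, Set.union_subset_iff] at hN
      have hm : ∀ i, m i ∈ N := fun i => hN.1 (by simp)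
      have hx : x ∈ N := hN.2 (by simp)
      refine ⟨_, Submodule.subset_span ⟨.smul (fun i => ⟨m i, hm i⟩) i r ⟨x, hx⟩, rfl⟩, ?_⟩
      simp only [exteriorPower.presentation.relations_relation, map_sub, map_smul]
      erw [em_single, em_single]
      rw [coe_update, coe_update]
      rfl
    · refine ⟨Finset.univ.image m, fun N hN => ?_⟩
      have hm : ∀ i, m i ∈ N := fun i => hN (by simp)
      refine ⟨_, Submodule.subset_span ⟨.alt (fun i => ⟨m i, hm i⟩) i j (Subtype.ext hij) hne,
        rfl⟩, ?_⟩
      simp only [exteriorPower.presentation.relations_relation]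
      erw [em_single]
  | zero => exact ⟨∅, fun A _ => ⟨0, Submodule.zero_mem _, map_zero _⟩⟩
  | add z w _ _ hz hw =>
    obtain ⟨s, hs⟩ := hz
    obtain ⟨t, ht⟩ := hw
    refine ⟨s ∪ t, fun A hA => ?_⟩
    rw [Finset.coe_union, Set.union_subset_iff] at hA
    obtain ⟨z', hz', h1⟩ := hs A hA.1
    obtain ⟨w', hw', h2⟩ := ht A hA.2
    exact ⟨z' + w', Submodule.add_mem _ hz' hw', by rw [map_add, h1, h2]⟩
  | smul a z _ hz =>
    obtain ⟨s, hs⟩ := hz
    refine ⟨s, fun A hA => ?_⟩
    obtain ⟨z', hz', h1⟩ := hs A hA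
    exact ⟨a • z', Submodule.smul_mem _ _ hz', by rw [map_smul, h1]⟩

/-- the presentation map -/
noncomputable def pr (n : ℕ) (M : Type u) [AddCommGroup M] [Module R M] :
    ((Fin n → M) →₀ R) →ₗ[R] ⋀[R]^n M :=
  Finsupp.linearCombination R (exteriorPower.ιMulti R n)

lemma pr_surjective (n : ℕ) : Function.Surjective (pr (R := R) n M) :=
  (exteriorPower.presentation R n M).surjective_π

lemma ker_pr (n : ℕ) : LinearMap.ker (pr (R := R) n M) = rel n M :=
  (exteriorPower.presentation R n M).ker_π

lemma map_pr (n : ℕ) (N : Submodule R M) (z : (Fin n → N) →₀ R) :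
    exteriorPower.map n N.subtype (pr n N z) = pr n M (em n N z) := by
  induction z using Finsupp.induction_linear with
  | zero => simp
  | add z w hz hw => rw [map_add, map_add, map_add, map_add, hz, hw]
  | single a b =>
    rw [em_single]
    unfold pr
    rw [linearCombination_single, linearCombination_single, map_smul,
      exteriorPower.map_apply_ιMulti]
    rfl

/-- Exterior powers of flat modules are flat (Noetherian base). -/
theorem flat_exteriorPower [IsNoetherianRing R] [Module.Flat R M] (n : ℕ) :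
    Module.Flat R (⋀[R]^n M) := by
  classical
  refine Module.Flat.of_forall_isTrivialRelation ?_
  intro l f x hfx
  choose ζ hζ using fun i => pr_surjective (R := R) n (x i)
  have h0 : (∑ i, f i • ζ i) ∈ rel n M := by
    rw [← ker_pr, LinearMap.mem_ker, map_sum, ← hfx]
    refine Finset.sum_congr rfl fun i _ => ?_
    rw [map_smul, hζ]
  obtain ⟨s, hs⟩ := exists_rel n _ h0
  choose t ht using fun i => exists_lift_ext n (ζ i)
  let T : Finset M := s ∪ (Finset.univ.biUnion t)
  let N : Submodule R M := Submodule.span R (T : Set M)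
  have hT : (T : Set M) ⊆ N := Submodule.subset_span
  have hsA : (s : Set M) ⊆ N := fun y hy => hT (by
    rw [Finset.mem_coe] at hy ⊢
    exact Finset.mem_union_left _ hy)
  have htA : ∀ i, (t i : Set M) ⊆ N := fun i y hy => hT (by
    rw [Finset.mem_coe] at hy ⊢
    exact Finset.mem_union_right _ (Finset.mem_biUnion.mpr ⟨i, Finset.mem_univ _, hy⟩))
  choose ζ' hζ' using fun i => ht i N (htA i)
  obtain ⟨z', hz', hz''⟩ := hs N hsA
  have h1 : (∑ i, f i • ζ' i) = z' := by
    apply em_injective n N
    rw [hz'', map_sum]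
    refine Finset.sum_congr rfl fun i _ => ?_
    rw [map_smul, hζ']
  let x' : Fin l → ⋀[R]^n N := fun i => pr n N (ζ' i)
  have h2 : ∑ i, f i • x' i = 0 := by
    rw [← h1, ← ker_pr, LinearMap.mem_ker, map_sum] at hz'
    rw [← hz']
    exact Finset.sum_congr rfl fun i _ => (map_smul _ _ _).symm
  have hx' : ∀ i, exteriorPower.map n N.subtype (x' i) = x i := by
    intro i
    rw [← hζ i, ← hζ' i]
    exact map_pr n N _
  have : Module.Finite R N := Module.Finite.iff_fg.mpr ⟨T, rfl⟩
  have : Module.FinitePresentation R N := Module.finitePresentation_of_finite R N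
  obtain ⟨k, g, h, hgh⟩ := Module.Flat.exists_factorization_of_finitePresentation N.subtype
  have : Module.Free R (⋀[R]^n (Fin k →₀ R)) := inferInstance
  have h3 : ∑ i, f i • exteriorPower.map n g (x' i) = 0 := by
    have h4 := congrArg (exteriorPower.map n g) h2
    rw [map_zero, map_sum] at h4
    rw [← h4]
    exact Finset.sum_congr rfl fun i _ => (map_smul _ _ _).symm
  obtain ⟨r, a, y, hy, hf⟩ := Module.Flat.isTrivialRelation_of_sum_smul_eq_zero h3
  refine ⟨r, a, fun j => exteriorPower.map n h (y j), fun i => ?_, hf⟩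
  have h6 : exteriorPower.map n g (x' i) = ∑ j, a i j • y j := hy i
  rw [← hx' i, hgh, exteriorPower.map_comp]
  change exteriorPower.map n h (exteriorPower.map n g (x' i)) = _
  rw [h6, map_sum]
  exact Finset.sum_congr rfl fun j _ => map_smul _ _ _

end Exterior

end K168.OmegaFlat
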