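import Groth.Agent.LocCoh.K168.OmegaFlat
import Groth.Agent.Localalg.LCRows
import Groth.Agent.Localalg.LCIface
import Groth.Agent.S0595
import Groth.Agent.Etdl.H428.RegPar2
import Groth.Agent.Ega4late.H544.Dim
import Mathlib.Algebra.Field.ULift

/-!
# Local cohomology of flat modules along a regular sequence

* `subsingleton_H_of_isWeaklyRegular`: `H^j_I(N) = 0` for `j < r` if `I` contains a weakly `N`-regular
  sequence of length `r` (no finiteness on `N`).
* `subsingleton_H_of_flat`: `H^j_I(N) = 0` for `j ≠ r`, `N` flat, `I` generated by a regular sequence of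
  length `r`.
* `flat_kaehler_of_isRegularRing`: `Ω[A⁄ℤ]` is flat over a regular ring `A` of characteristic `p`.
-/

set_option autoImplicit false
universe u

open KaehlerDifferential TensorProduct RingTheory.Sequence Pointwise
open Groth.Agent.Dix.TopLC (hmap)
open Groth.Agent.Localalg.LCIface (les lin isPowerTorsion_H exists_H0)

namespace K168.OmegaVan

variable {R : Type u} [CommRing R] [IsNoetherianRing R]

/-- An element killed by `x` in `H^j_I(N)` vanishes if `x` is `N`-regular and
`H^{j-1}_I(N/xN) = 0`. -/
theorem eq_zero_of_smul (I : Ideal R) (x : R) (N : Type u) [AddCommGroup N] [Module R N]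
    (hx : IsSMulRegular N x) (j : ℕ) (h : ∀ i, i + 1 = j → Subsingleton (LocCoh.H I i (QuotSMulTop x N)))
    (y : LocCoh.H I j N) (hy : x • y = 0) : y = 0 := by
  cases j with
  | zero =>
    obtain ⟨f, hf⟩ := exists_H0 I N
    apply hf
    rw [map_zero]
    apply hx
    change x • f y = x • (0 : N)
    rw [← map_smul, hy, map_zero, smul_zero]
  | succ j =>
    have h1 := h j rfl
    have hex : Function.Exact (LinearMap.lsmul R N x)
        (Submodule.mkQ (x • (⊤ : Submodule R N))) := by
      intro z
      rw [Submodule.mkQ_apply, Submodule.Quotient.mk_eq_zero]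
      constructor
      · intro hz
        obtain ⟨w, -, rfl⟩ := Submodule.mem_smul_pointwise_iff_exists _ _ _ |>.mp hz
        exact ⟨w, rfl⟩
      · rintro ⟨w, rfl⟩
        exact Submodule.smul_mem_pointwise_smul _ _ _ trivial
    obtain ⟨δ, -, -, h3⟩ := les I N N (QuotSMulTop x N) (LinearMap.lsmul R N x)
      (Submodule.mkQ (x • (⊤ : Submodule R N))) hx (Submodule.mkQ_surjective _) hex j
    rw [← lin I N (j + 1) x y] at hy
    obtain ⟨z, rfl⟩ := (h3 y).mp hy
    rw [Subsingleton.elim z 0, map_zero]

theorem subsingleton_H_of_isWeaklyRegular (I : Ideal R) (rs : List R) :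
    ∀ (N : Type u) [AddCommGroup N] [Module R N], IsWeaklyRegular N rs → (∀ r ∈ rs, r ∈ I) →
      ∀ j : ℕ, j < rs.length → Subsingleton (LocCoh.H I j N) := by
  induction rs with
  | nil =>
    intro N _ _ _ _ j hj
    exact absurd hj (Nat.not_lt_zero _)
  | cons x rs ih =>
    intro N _ _ h hI j hj
    rw [isWeaklyRegular_cons_iff] at h
    have hxI : x ∈ I := hI x List.mem_cons_self
    have h1 : ∀ i, i + 1 = j → Subsingleton (LocCoh.H I i (QuotSMulTop x N)) := by
      intro i hi
      refine ih _ h.2 (fun r hr => hI r (List.mem_cons_of_mem _ hr)) i ?_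
      rw [List.length_cons] at hj
      omega
    refine subsingleton_of_forall_eq 0 fun y => ?_
    obtain ⟨k, hk⟩ := isPowerTorsion_H I N j y
    have h2 : x ^ k • y = 0 := hk _ (Ideal.pow_mem_pow hxI k)
    clear hk
    induction k with
    | zero => rwa [pow_zero, one_smul] at h2
    | succ k ihk =>
      apply ihk
      rw [pow_succ', mul_smul] at h2
      exact eq_zero_of_smul I x N h.1 j h1 _ h2

theorem subsingleton_H_of_flat (ts : List R) (hreg : IsWeaklyRegular R ts) (N : Type u)
    [AddCommGroup N] [Module R N] [Module.Flat R N] (j : ℕ) (hj : j ≠ ts.length) :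
    Subsingleton (LocCoh.H (Ideal.ofList ts) j N) := by
  classical
  rcases lt_or_gt_of_ne hj with h | h
  · refine subsingleton_H_of_isWeaklyRegular _ ts N ?_ (fun r hr => Ideal.subset_span hr) j h
    have h1 : IsWeaklyRegular (N ⊗[R] R) ts := hreg.isWeaklyRegular_lTensor
    exact ((TensorProduct.rid R N).isWeaklyRegular_congr ts).mp h1
  · have h1 := Groth.Agent.Localalg.LCRows.cdLE_card (ts.toFinset)
    have h2 : Ideal.span ((ts.toFinset : Finset R) : Set R) = Ideal.ofList ts := by
      unfold Ideal.ofList
      congr 1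
      ext r
      simp
    rw [h2] at h1
    exact h1 N j (lt_of_le_of_lt ts.toFinset_card_le h)

/-- Absolute differentials of a regular ring of characteristic `p` are flat. -/
theorem flat_kaehler_of_isRegularRing (p : ℕ) [Fact p.Prime] (A : Type u) [CommRing A]
    [IsRegularRing A] [CharP A p] : Module.Flat A Ω[A⁄ℤ] := by
  have : IsNoetherianRing A := inferInstance
  let : Algebra (ZMod p) A := ZMod.algebra A p
  let k := ULift.{u} (ZMod p)
  let : Algebra k A := ULift.algebra' (R := ZMod p) (A := A)
  have h1 : PerfectField k := inferInstance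
  have h2 : CAlg.IsGeometricallyRegular k A :=
    Groth.Agent.Etdl.H428.RegPar.isGeometricallyRegular_of_perfectField k A
  have h3 : Module.Flat A Ω[A⁄k] := K168.OmegaFlat.flat_kaehler_of_indSmooth
    (Groth.Agent.S0595.indSmooth_field k A h2)
  have h4 : Function.Bijective (KaehlerDifferential.map ℤ k A A) := by
    refine ⟨?_, KaehlerDifferential.map_surjective ℤ k A⟩
    rw [injective_iff_map_eq_zero]
    intro x hx
    obtain ⟨y, rfl⟩ := (KaehlerDifferential.exact_mapBaseChange_map ℤ k A x).mp hx
    have : Subsingleton Ω[k⁄ℤ] := KaehlerDifferential.subsingleton_of_surjective ℤ k (by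
      intro z
      obtain ⟨n, hn⟩ := ZMod.intCast_surjective z.down
      exact ⟨n, ULift.down_injective ((map_intCast (ULift.ringEquiv.{0, u} (R := ZMod p)) n).trans hn)⟩)
    rw [Subsingleton.elim y 0, map_zero]
  exact Module.Flat.of_linearEquiv (LinearEquiv.ofBijective _ h4)

theorem main (p : ℕ) [Fact p.Prime] (A : Type u) [CommRing A] [IsRegularLocalRing A] [CharP A p]
    (ts : List A) (hreg : IsRegular A ts) (i j : ℕ) (hj : j ≠ ts.length) :
    Subsingleton (LocCoh.H (Ideal.ofList ts) j (⋀[A]^i Ω[A⁄ℤ])) := by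
  have h1 : IsRegularRing A := Groth.Agent.Ega4late.H544.Dim.isRegularRing_of_isRegularLocalRing A
  have h2 := flat_kaehler_of_isRegularRing p A
  have h3 : Module.Flat A (⋀[A]^i Ω[A⁄ℤ]) := K168.OmegaFlat.flat_exteriorPower i
  exact subsingleton_H_of_flat ts hreg.toIsWeaklyRegular _ j hj

end K168.OmegaVan
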