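import Groth.Agent.Localalg.LCIface2
import Groth.Agent.Localalg.LCRows
import Mathlib.Algebra.Category.ModuleCat.Monoidal.Closed
import Mathlib.Algebra.Category.ModuleCat.ChangeOfRings
import Mathlib.LinearAlgebra.DirectSum.Finsupp

/-!
# Top local cohomology is a tensor product

If `cd(A, I) ≤ d` (Noetherian ring) then `H^d_I(E) = H^d_I(A) ⊗ E` naturally in `E`:
`K168.TopTensor.isoTensor`. Consequently `Hom_R(H^d_I(-), F)` is representable for `R → A`.
-/

set_option autoImplicit false
universe u

open CategoryTheory TensorProduct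
open Groth.Agent.LoccohA.LES

namespace K168.TopTensor

variable {A : Type u} [CommRing A] (I : Ideal A) (d : ℕ)

theorem hmap_add {M N : Type u} [AddCommGroup M] [Module A M] [AddCommGroup N] [Module A N]
    (f g : M →ₗ[A] N) (x : LocCoh.H I d M) : hmap I d (f + g) x = hmap I d f x + hmap I d g x := by
  have : (localCohomology I d).Additive := (Groth.Agent.Localalg.LCAbs.lc I).D.additive d
  have h : ModuleCat.ofHom (f + g) = ModuleCat.ofHom f + ModuleCat.ofHom g := rfl
  rw [hmap, h, Functor.map_add]
  rfl

theorem hmap_sum {M N : Type u} [AddCommGroup M] [Module A M] [AddCommGroup N] [Module A N]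
    {ι : Type*} (t : Finset ι) (f : ι → (M →ₗ[A] N)) (x : LocCoh.H I d M) :
    hmap I d (∑ i ∈ t, f i) x = ∑ i ∈ t, hmap I d (f i) x := by
  classical
  induction t using Finset.induction_on with
  | empty => exact hmap_zero I d x
  | insert a t ha ih => rw [Finset.sum_insert ha, Finset.sum_insert ha, hmap_add, ih]

/-- `H^d_I(A) ⊗ E → H^d_I(E)`. -/
noncomputable def τ (E : Type u) [AddCommGroup E] [Module A E] :
    (LocCoh.H I d A ⊗[A] E) →ₗ[A] LocCoh.H I d E :=
  TensorProduct.lift (LinearMap.flip
    { toFun := fun e => hmap I d (LinearMap.toSpanSingleton A E e)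
      map_add' := fun e e' => by
        ext x
        rw [LinearMap.add_apply, ← hmap_add]
        congr 2
        ext
        simp
      map_smul' := fun a e => by
        ext x
        rw [RingHom.id_apply, LinearMap.smul_apply, ← hmap_smul]
        congr 2
        ext
        simp })

theorem τ_tmul (E : Type u) [AddCommGroup E] [Module A E] (h : LocCoh.H I d A) (e : E) :
    τ I d E (h ⊗ₜ e) = hmap I d (LinearMap.toSpanSingleton A E e) h := rfl

theorem τ_natural {E E' : Type u} [AddCommGroup E] [Module A E] [AddCommGroup E'] [Module A E']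
    (f : E →ₗ[A] E') (x : LocCoh.H I d A ⊗[A] E) :
    τ I d E' (f.lTensor _ x) = hmap I d f (τ I d E x) := by
  induction x using TensorProduct.induction_on with
  | zero => rw [map_zero, map_zero, map_zero, map_zero]
  | add x y hx hy => rw [map_add, map_add, map_add, map_add, hx, hy]
  | tmul h e =>
    rw [LinearMap.lTensor_tmul, τ_tmul, τ_tmul, ← hmap_comp]
    congr 2
    ext
    simp

theorem τ_self (x : LocCoh.H I d A ⊗[A] A) : τ I d A x = TensorProduct.rid A _ x := by
  induction x using TensorProduct.induction_on with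
  | zero => rw [map_zero, map_zero]
  | add x y hx hy => rw [map_add, map_add, hx, hy]
  | tmul h a =>
    rw [τ_tmul, TensorProduct.rid_tmul]
    have h1 : LinearMap.toSpanSingleton A A a = a • (LinearMap.id : A →ₗ[A] A) := by
      ext
      simp
    rw [h1, hmap_smul, hmap_id]

theorem τ_injective_finsupp (ι : Type u) : Function.Injective (τ I d (ι →₀ A)) := by
  classical
  rw [injective_iff_map_eq_zero]
  intro x hx
  apply (TensorProduct.finsuppScalarRight A A (LocCoh.H I d A) ι).injective
  rw [map_zero]
  ext i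
  rw [TensorProduct.finsuppScalarRight_apply]
  have h1 := τ_natural I d (Finsupp.lapply i : (ι →₀ A) →ₗ[A] A) x
  rw [hx, map_zero, τ_self] at h1
  exact h1

variable [IsNoetherianRing A]

theorem τ_surjective_finsupp (ι : Type u) : Function.Surjective (τ I d (ι →₀ A)) := by
  classical
  intro y
  obtain ⟨M', hM', y', hy⟩ := (Groth.Agent.Localalg.LCIface2.iface2 I).fg _ d y
  obtain ⟨s, hs⟩ := hM'
  let t : Finset ι := s.biUnion (fun v => v.support)
  have hle : M' ≤ Finsupp.supported A A (t : Set ι) := by
    rw [← hs, Submodule.span_le]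
    intro v hv
    rw [SetLike.mem_coe, Finsupp.mem_supported]
    intro j hj
    simp only [t, Finset.coe_biUnion, Set.mem_iUnion]
    exact ⟨v, hv, hj⟩
  let e : (ι →₀ A) →ₗ[A] (ι →₀ A) := ∑ i ∈ t, (Finsupp.lsingle i) ∘ₗ (Finsupp.lapply i)
  have he : e ∘ₗ M'.subtype = M'.subtype := by
    ext v j
    have hv : v.1 ∈ Finsupp.supported A A (t : Set ι) := hle v.2
    rw [Finsupp.mem_supported] at hv
    simp only [e, LinearMap.comp_apply, LinearMap.sum_apply, Submodule.subtype_apply,
      Finsupp.lsingle_apply, Finsupp.lapply_apply, Finsupp.finsetSum_apply, Finsupp.single_apply,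
      Finset.sum_ite_eq']
    split_ifs with h
    · rfl
    · by_contra h2
      exact h (hv (Finsupp.mem_support_iff.mpr (Ne.symm h2)))
  have hy1 : y = hmap I d M'.subtype y' := hy.symm
  have h1 : y = hmap I d e y := by
    conv_lhs => rw [hy1, ← he, hmap_comp, ← hy1]
  refine ⟨∑ i ∈ t, (hmap I d (Finsupp.lapply i : (ι →₀ A) →ₗ[A] A) y) ⊗ₜ
    (Finsupp.single i (1 : A)), ?_⟩
  rw [map_sum]
  refine Eq.trans ?_ ((hmap_sum I d t _ y).symm.trans h1.symm)
  refine Finset.sum_congr rfl fun i _ => ?_
  rw [τ_tmul, hmap_comp]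
  congr 2
  ext
  simp

variable {I d}

omit [IsNoetherianRing A] in
theorem exists_les (hd : LocCoh.CdLE A I d) {K P E : Type u} [AddCommGroup K] [Module A K]
    [AddCommGroup P] [Module A P] [AddCommGroup E] [Module A E] (f : K →ₗ[A] P) (g : P →ₗ[A] E)
    (hf : Function.Injective f) (hfg : Function.Exact f g) (hg : Function.Surjective g) :
    Function.Exact (hmap I d f) (hmap I d g) ∧ Function.Surjective (hmap I d g) := by
  obtain ⟨δ, h1, -, h2⟩ := exists_exact I d f g hf hfg hg
  have := hd K (d + 1) (Nat.lt_succ_self d)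
  exact ⟨h2, fun y => (h1 y).mp (Subsingleton.elim _ _)⟩

theorem τ_surjective (hd : LocCoh.CdLE A I d) (E : Type u) [AddCommGroup E] [Module A E] :
    Function.Surjective (τ I d E) := by
  let π : (E →₀ A) →ₗ[A] E := Finsupp.linearCombination A id
  have hπ : Function.Surjective π := Finsupp.linearCombination_surjective A Function.surjective_id
  obtain ⟨-, h2⟩ := exists_les hd (K := LinearMap.ker π) (P := E →₀ A) (E := E)
    (LinearMap.ker π).subtype π (Submodule.injective_subtype _)
    (LinearMap.exact_subtype_ker_map π) hπ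
  intro y
  obtain ⟨z, rfl⟩ := h2 y
  obtain ⟨x, rfl⟩ := τ_surjective_finsupp I d E z
  exact ⟨π.lTensor _ x, τ_natural I d π x⟩

theorem τ_injective (hd : LocCoh.CdLE A I d) (E : Type u) [AddCommGroup E] [Module A E] :
    Function.Injective (τ I d E) := by
  let π : (E →₀ A) →ₗ[A] E := Finsupp.linearCombination A id
  have hπ : Function.Surjective π := Finsupp.linearCombination_surjective A Function.surjective_id
  obtain ⟨h1, -⟩ := exists_les hd (K := LinearMap.ker π) (P := E →₀ A) (E := E)
    (LinearMap.ker π).subtype π (Submodule.injective_subtype _)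
    (LinearMap.exact_subtype_ker_map π) hπ
  rw [injective_iff_map_eq_zero]
  intro x hx
  obtain ⟨x, rfl⟩ := π.lTensor_surjective (LocCoh.H I d A) hπ x
  rw [τ_natural] at hx
  obtain ⟨z, hz⟩ := (h1 _).mp hx
  obtain ⟨w, rfl⟩ := τ_surjective hd _ z
  rw [← τ_natural] at hz
  rw [← τ_injective_finsupp I d E hz, ← LinearMap.comp_apply, ← LinearMap.lTensor_comp]
  have h3 : π ∘ₗ (LinearMap.ker π).subtype = 0 := by
    ext x
    exact x.2
  rw [h3, LinearMap.lTensor_zero, LinearMap.zero_apply]

/-- `H^d_I(A) ⊗ E ≃ H^d_I(E)`. -/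
noncomputable def equiv (hd : LocCoh.CdLE A I d) (E : Type u) [AddCommGroup E] [Module A E] :
    (LocCoh.H I d A ⊗[A] E) ≃ₗ[A] LocCoh.H I d E :=
  LinearEquiv.ofBijective (τ I d E) ⟨τ_injective hd E, τ_surjective hd E⟩

/-- `H^d_I(A) ⊗ - ≅ H^d_I(-)` for `d ≥ cd(A, I)`. -/
noncomputable def isoTensor (hd : LocCoh.CdLE A I d) :
    MonoidalCategory.tensorLeft ((localCohomology I d).obj (ModuleCat.of A A)) ≅
      localCohomology I d :=
  NatIso.ofComponents (fun E => (equiv hd E).toModuleIso) (by
    intro E E' f
    ext x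
    exact τ_natural I d f.hom x)

theorem isLeftAdjoint (hd : LocCoh.CdLE A I d) : (localCohomology I d).IsLeftAdjoint :=
  ((ihom.adjunction ((localCohomology I d).obj (ModuleCat.of A A))).ofNatIsoLeft
    (isoTensor hd)).isLeftAdjoint

theorem isRepresentable (hd : LocCoh.CdLE A I d) (R : Type u) [CommRing R] [Algebra R A]
    (F : Type u) [AddCommGroup F] [Module R F] :
    ((localCohomology I d ⋙ ModuleCat.restrictScalars (algebraMap R A)).op ⋙
      yoneda.obj (ModuleCat.of R F)).IsRepresentable :=
  ((((ihom.adjunction ((localCohomology I d).obj (ModuleCat.of A A))).ofNatIsoLeft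
    (isoTensor hd)).comp (ModuleCat.restrictCoextendScalarsAdj (algebraMap R A))).representableBy
      (ModuleCat.of R F)).isRepresentable

theorem cdLE_of_radical_eq {I J : Ideal A} (h : I.radical = J.radical) {e : ℕ}
    (hI : LocCoh.CdLE A I e) : LocCoh.CdLE A J e := by
  intro M _ _ i hi
  have hs : Subsingleton (LocCoh.H I i M) := hI M i hi
  have e := (localCohomology.isoOfSameRadical (i := i) h).app (ModuleCat.of A M)
  exact e.toLinearEquiv.symm.toEquiv.subsingleton

/-- `cd(A, I) ≤ n` if `I` has the radical of an ideal with `n` generators. -/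
theorem cdLE_of_le_radical (n : ℕ) (u : Fin n → A) (hu : ∀ i, u i ∈ I)
    (hI : I ≤ (Ideal.span (Set.range u)).radical) : LocCoh.CdLE A I n := by
  classical
  have h1 := Groth.Agent.Localalg.LCRows.cdLE_card (Finset.univ.image u)
  have h2 : (((Finset.univ.image u : Finset A) : Set A)) = Set.range u := by
    simp
  rw [h2] at h1
  have h3 : (Ideal.span (Set.range u)).radical = I.radical := by
    apply le_antisymm
    · refine Ideal.radical_mono ?_
      rw [Ideal.span_le]
      rintro _ ⟨i, rfl⟩
      exact hu i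
    · rw [← Ideal.radical_idem (Ideal.span (Set.range u))]
      exact Ideal.radical_mono hI
  have h4 := cdLE_of_radical_eq h3 h1
  intro M _ _ i hi
  refine h4 M i (lt_of_le_of_lt ?_ hi)
  refine Finset.card_image_le.trans ?_
  simp

end K168.TopTensor
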